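import Mathlib

/-!
An isometry of odd order prime to the characteristic: fixed and moved spaces, and the twisted form on the
moved space, which has the opposite symmetry.
-/

set_option autoImplicit false

namespace Cfsg.Agent.Lib.PrimeGraphBC

open Module

variable {F : Type*} [Field F] {V : Type*} [AddCommGroup V] [Module F V]

/-- The fixed space. -/
def fixedSpace (S : Module.End F V) : Submodule F V := LinearMap.ker (S - 1)

/-- The moved space. -/
def movedSpace (S : Module.End F V) : Submodule F V := LinearMap.range (S - 1)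

theorem mem_fixedSpace {S : Module.End F V} {v : V} : v ∈ fixedSpace S ↔ S v = v := by
  simp [fixedSpace, sub_eq_zero]

theorem sub_mem_movedSpace (S : Module.End F V) (v : V) : S v - v ∈ movedSpace S := ⟨v, rfl⟩

theorem apply_mem_movedSpace {S U : Module.End F V} (hc : Commute U S) {v : V} (hv : v ∈ movedSpace S) :
    U v ∈ movedSpace S := by
  obtain ⟨w, rfl⟩ := hv
  exact ⟨U w, (LinearMap.congr_fun (hc.sub_right (Commute.one_right U)).eq w).symm⟩

theorem apply_mem_fixedSpace {S U : Module.End F V} (hc : Commute U S) {v : V} (hv : v ∈ fixedSpace S) :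
    U v ∈ fixedSpace S := by
  rw [mem_fixedSpace] at hv ⊢
  rw [← Module.End.mul_apply, ← hc.eq, Module.End.mul_apply, hv]

theorem pow_apply_of_mem_fixedSpace {S : Module.End F V} {v : V} (hv : v ∈ fixedSpace S) (j : ℕ) :
    (S ^ j) v = v := by
  induction j with
  | zero => simp
  | succ j ih => rw [pow_succ, Module.End.mul_apply, mem_fixedSpace.1 hv, ih]

variable {B : LinearMap.BilinForm F V} {S : Module.End F V} {N : ℕ}

theorem orth_left (hS : ∀ x y, B (S x) (S y) = B x y) {v w : V} (hv : v ∈ movedSpace S)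
    (hw : w ∈ fixedSpace S) : B v w = 0 := by
  obtain ⟨u, rfl⟩ := hv
  rw [mem_fixedSpace] at hw
  show B (S u - u) w = 0
  rw [map_sub, LinearMap.sub_apply, sub_eq_zero]
  conv_lhs => rw [← hw]
  exact hS u w

theorem orth_right (hS : ∀ x y, B (S x) (S y) = B x y) {v w : V} (hv : v ∈ movedSpace S)
    (hw : w ∈ fixedSpace S) : B w v = 0 := by
  obtain ⟨u, rfl⟩ := hv
  rw [mem_fixedSpace] at hw
  show B w (S u - u) = 0
  rw [map_sub, sub_eq_zero]
  conv_lhs => rw [← hw]
  exact hS w u

theorem disjoint_fixed_moved (hNF : (N : F) ≠ 0) (hSN : S ^ N = 1) :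
    Disjoint (fixedSpace S) (movedSpace S) := by
  rw [Submodule.disjoint_def]
  rintro _ hv ⟨u, rfl⟩
  rw [mem_fixedSpace] at hv
  set v := (S - 1) u with hvdef
  have hu : S u = u + v := by rw [hvdef]; simp
  have hp : ∀ j : ℕ, (S ^ j) u = u + (j : F) • v := fun j => by
    induction j with
    | zero => simp
    | succ j ih =>
      rw [pow_succ', Module.End.mul_apply, ih, map_add, map_smul, hu, hv, Nat.cast_succ, add_smul, one_smul]
      abel
  have h := hp N
  rw [hSN, Module.End.one_apply, left_eq_add, smul_eq_zero] at h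
  exact h.resolve_left hNF

variable [FiniteDimensional F V]

theorem isCompl_fixed_moved (hNF : (N : F) ≠ 0) (hSN : S ^ N = 1) :
    IsCompl (fixedSpace S) (movedSpace S) := by
  refine ⟨disjoint_fixed_moved hNF hSN, codisjoint_iff.2 (Submodule.eq_top_of_disjoint _ _ ?_
    (disjoint_fixed_moved hNF hSN))⟩
  rw [add_comm]
  exact (LinearMap.finrank_range_add_finrank_ker (S - 1)).ge

theorem exists_decomp (hNF : (N : F) ≠ 0) (hSN : S ^ N = 1) (v : V) :
    ∃ a ∈ fixedSpace S, ∃ w ∈ movedSpace S, v = a + w := by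
  obtain ⟨a, ha, w, hw, h⟩ := Submodule.mem_sup.1
    (show v ∈ fixedSpace S ⊔ movedSpace S by rw [(isCompl_fixed_moved hNF hSN).sup_eq_top]; exact Submodule.mem_top)
  exact ⟨a, ha, w, hw, h.symm⟩

theorem nondegenerate_moved (hB : B.Nondegenerate) (hS : ∀ x y, B (S x) (S y) = B x y) (hNF : (N : F) ≠ 0)
    (hSN : S ^ N = 1) : (B.restrict (movedSpace S)).Nondegenerate := by
  refine ⟨fun x hx => Subtype.ext (hB.1 _ fun y => ?_), fun x hx => Subtype.ext (hB.2 _ fun y => ?_)⟩
  all_goals
    obtain ⟨a, ha, w, hw, rfl⟩ := exists_decomp hNF hSN y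
  · rw [map_add, orth_left hS x.2 ha, zero_add]
    exact hx ⟨w, hw⟩
  · rw [map_add, LinearMap.add_apply, orth_right hS x.2 ha, zero_add]
    exact hx ⟨w, hw⟩

theorem nondegenerate_fixed (hB : B.Nondegenerate) (hS : ∀ x y, B (S x) (S y) = B x y) (hNF : (N : F) ≠ 0)
    (hSN : S ^ N = 1) : (B.restrict (fixedSpace S)).Nondegenerate := by
  refine ⟨fun x hx => Subtype.ext (hB.1 _ fun y => ?_), fun x hx => Subtype.ext (hB.2 _ fun y => ?_)⟩
  all_goals
    obtain ⟨a, ha, w, hw, rfl⟩ := exists_decomp hNF hSN y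
  · rw [map_add, orth_right hS hw x.2, add_zero]
    exact hx ⟨a, ha⟩
  · rw [map_add, LinearMap.add_apply, orth_left hS hw x.2, add_zero]
    exact hx ⟨a, ha⟩

omit [FiniteDimensional F V]

/-- `(x, y) ↦ B(x, (S - S⁻¹) y)` on the moved space. -/
noncomputable def twist (B : LinearMap.BilinForm F V) (S : Module.End F V) (N : ℕ) :
    LinearMap.BilinForm F (movedSpace S) :=
  LinearMap.BilinForm.restrict (LinearMap.compl₂ B (S - S ^ (N - 1))) (movedSpace S)

theorem twist_apply (x y : movedSpace S) :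
    twist B S N x y = B (x : V) (S (y : V)) - B (x : V) ((S ^ (N - 1)) (y : V)) := by
  show B (x : V) ((S - S ^ (N - 1)) (y : V)) = _
  rw [LinearMap.sub_apply, map_sub]

theorem inv_adjoint (hS : ∀ x y, B (S x) (S y) = B x y) (hN : 0 < N) (hSN : S ^ N = 1) (x y : V) :
    B x (S y) = B ((S ^ (N - 1)) x) y ∧ B x ((S ^ (N - 1)) y) = B (S x) y := by
  have h : ∀ z, S ((S ^ (N - 1)) z) = z := fun z => by
    rw [← Module.End.mul_apply, ← pow_succ', Nat.sub_add_cancel hN, hSN, Module.End.one_apply]
  constructor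
  · conv_rhs => rw [← hS, h]
  · conv_rhs => rw [← h y, hS]

theorem twist_symm {ε : F} (hε : ∀ x y, B x y = ε * B y x) (hS : ∀ x y, B (S x) (S y) = B x y) (hN : 0 < N)
    (hSN : S ^ N = 1) (x y : movedSpace S) : twist B S N x y = -ε * twist B S N y x := by
  rw [twist_apply, twist_apply, (inv_adjoint hS hN hSN _ _).1, (inv_adjoint hS hN hSN _ _).2,
    hε ((S ^ (N - 1)) (x : V)), hε (S (x : V))]
  ring

theorem twist_self (hsym : ∀ x y, B x y = B y x) (hS : ∀ x y, B (S x) (S y) = B x y) (hN : 0 < N)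
    (hSN : S ^ N = 1) (x : movedSpace S) : twist B S N x x = 0 := by
  rw [twist_apply, (inv_adjoint hS hN hSN (x : V) (x : V)).2, hsym (x : V), sub_self]

theorem twist_isometry {U : Module.End F V} (hU : ∀ x y, B (U x) (U y) = B x y) (hc : Commute U S)
    (x y : movedSpace S) :
    twist B S N ⟨U x, apply_mem_movedSpace hc x.2⟩ ⟨U y, apply_mem_movedSpace hc y.2⟩ = twist B S N x y := by
  rw [twist_apply, twist_apply]
  show B (U x) (S (U y)) - B (U x) ((S ^ (N - 1)) (U y)) = _
  rw [← Module.End.mul_apply S, ← Module.End.mul_apply (S ^ (N - 1)), ← hc.eq, ← (hc.pow_right (N - 1)).eq,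
    Module.End.mul_apply, Module.End.mul_apply, hU, hU]

variable [FiniteDimensional F V]

theorem twist_nondegenerate (hB : B.Nondegenerate) {ε : F} (hε : ∀ x y, B x y = ε * B y x) (hε0 : ε ≠ 0)
    (hS : ∀ x y, B (S x) (S y) = B x y) (hNodd : Odd N) (hNF : (N : F) ≠ 0) (hSN : S ^ N = 1) :
    (twist B S N).Nondegenerate := by
  have hN : 0 < N := hNodd.pos
  have hmem : ∀ x ∈ movedSpace S, (S - S ^ (N - 1)) x ∈ movedSpace S := fun x hx => by
    exact apply_mem_movedSpace ((Commute.refl S).sub_left (Commute.pow_self S _)) hx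
  let D : movedSpace S →ₗ[F] movedSpace S := (S - S ^ (N - 1)).restrict hmem
  have hinj : Function.Injective D := by
    rw [injective_iff_map_eq_zero]
    intro y hy
    have h1 : S (y : V) = (S ^ (N - 1)) (y : V) := sub_eq_zero.1 (congrArg Subtype.val hy)
    have h2 : (S ^ 2) (y : V) = y := by
      rw [_root_.sq, Module.End.mul_apply, h1, ← Module.End.mul_apply, ← pow_succ', Nat.sub_add_cancel hN, hSN,
        Module.End.one_apply]
    obtain ⟨c, hc⟩ := hNodd
    have h3 : (S ^ (2 * c)) (y : V) = y := by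
      rw [pow_mul]
      exact pow_apply_of_mem_fixedSpace (mem_fixedSpace.2 h2) c
    have h4 : S (y : V) = y := by
      conv_rhs => rw [← Module.End.one_apply (R := F) (y : V), ← hSN, hc, pow_succ', Module.End.mul_apply, h3]
    exact Subtype.ext (Submodule.disjoint_def.1 (disjoint_fixed_moved hNF hSN) _ (mem_fixedSpace.2 h4) y.2)
  have hsurj : Function.Surjective D := LinearMap.injective_iff_surjective.1 hinj
  have hl : ∀ x, (∀ y, twist B S N x y = 0) → x = 0 := fun x hx => by
    refine (nondegenerate_moved hB hS hNF hSN).1 x fun y => ?_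
    obtain ⟨z, rfl⟩ := hsurj y
    exact hx z
  refine ⟨hl, fun x hx => hl x fun y => ?_⟩
  rw [twist_symm hε hS hN hSN, hx y, mul_zero]

theorem orderOf_restrict_moved (hNF : (N : F) ≠ 0) (hSN : S ^ N = 1) :
    orderOf (S.restrict fun _ hv => apply_mem_movedSpace (Commute.refl S) hv : Module.End F (movedSpace S)) =
      orderOf S := by
  refine orderOf_eq_orderOf_iff.2 fun j => ?_
  have hres : ∀ (i : ℕ) (t : movedSpace S),
      (((S.restrict fun _ hv => apply_mem_movedSpace (Commute.refl S) hv : Module.End F (movedSpace S)) ^ i) t : V) =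
        (S ^ i) t.1 := fun i t => by
    induction i with
    | zero => rfl
    | succ i ih => rw [pow_succ', pow_succ', Module.End.mul_apply, Module.End.mul_apply, ← ih]; rfl
  constructor
  · intro h
    refine LinearMap.ext fun v => ?_
    obtain ⟨a, ha, w, hw, rfl⟩ := exists_decomp hNF hSN v
    rw [map_add, pow_apply_of_mem_fixedSpace ha]
    have := congrArg Subtype.val (LinearMap.congr_fun h ⟨w, hw⟩)
    rw [hres] at this
    rw [this]; rfl
  · intro h
    refine LinearMap.ext fun t => Subtype.ext ?_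
    rw [hres, h]; rfl

end Cfsg.Agent.Lib.PrimeGraphBC
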