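import Mathlib
import Cfsg.Agent.Lib.Orth.Omega
import Cfsg.Agent.Lib.Orth.Centre
import Cfsg.Agent.Lib.PrimeGraphBC.Moved

/-!
Orthogonal spaces of smaller dimension inside `(ι → F, Q)`: extension of isometries; Eichler transformations and
involutions living on a subspace of dimension three.
-/

set_option autoImplicit false

namespace Cfsg.Agent.Lib.PrimeGraphBC

open QuadraticMap Module

variable {ι : Type} [Fintype ι] [DecidableEq ι] {F : Type*} [Field F] {Q : QuadraticForm F (ι → F)}

variable (Q) in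
/-- An isometry as an endomorphism. -/
noncomputable def endHom : ↥(isometryGroup F ⇑Q) →* Module.End F (ι → F) :=
  (Matrix.toLinAlgEquiv' (R := F) (n := ι)).toMonoidHom.comp
    ((Units.coeHom (Matrix ι ι F)).comp (isometryGroup F ⇑Q).subtype)

theorem endHom_apply (g : ↥(isometryGroup F ⇑Q)) (v : ι → F) : endHom Q g v = Orth.app g v := rfl

theorem endHom_injective : Function.Injective (endHom Q) := fun _ _ h =>
  Orth.isometry_ext fun v => LinearMap.congr_fun h v

theorem endHom_isometry (g : ↥(isometryGroup F ⇑Q)) (x y : ι → F) :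
    polarBilin Q (endHom Q g x) (endHom Q g y) = polarBilin Q x y :=
  Orth.polar_app g x y

theorem orderOf_endHom (g : ↥(isometryGroup F ⇑Q)) : orderOf (endHom Q g) = orderOf g :=
  orderOf_injective (endHom Q) endHom_injective g

variable [Finite F] (h2 : (2 : F) ≠ 0)
include h2

variable (hQ : (QuadraticMap.polarBilin Q).Nondegenerate)
include hQ

/-- Orthogonal families with prescribed non-zero values, as long as a plane is left. -/
theorem exists_family {k : ℕ} (c : Fin k → F) (hc : ∀ i, c i ≠ 0) (hk : k < Fintype.card ι) :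
    ∃ v : Fin k → ι → F, (∀ i j, i ≠ j → polar ⇑Q (v i) (v j) = 0) ∧ ∀ i, Q (v i) = c i := by
  induction k with
  | zero => exact ⟨Fin.elim0, fun i => i.elim0, fun i => i.elim0⟩
  | succ k ih =>
    obtain ⟨v, hv, hvc⟩ := ih (fun i => c i.castSucc) (fun i => hc _) (by omega)
    have hv' : ∀ i, Q (v i) ≠ 0 := fun i => (hvc i).symm ▸ hc _
    obtain ⟨z0, hz0, hp0, hv1, hv1'⟩ := Orth.exists_extend h2 hQ hv hv' (by omega)
    obtain ⟨z1, hz1, hp1, -, -⟩ := Orth.exists_extend h2 hQ hv1 hv1' (by omega)
    have q01 : polar ⇑Q z0 z1 = 0 := by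
      have := hp1 (Fin.last k); rwa [Fin.snoc_last] at this
    have p1 : ∀ i : Fin k, polar ⇑Q (v i) z1 = 0 := fun i => by
      have := hp1 i.castSucc; rwa [Fin.snoc_castSucc] at this
    obtain ⟨α, β, hx⟩ := Orth.exists_value_of_orth h2 hz0 hz1 q01 (c (Fin.last k))
    have hxp : ∀ i, polar ⇑Q (v i) (α • z0 + β • z1) = 0 := fun i => by
      rw [polar_add_right, polar_smul_right, polar_smul_right, hp0 i, p1 i, smul_zero, smul_zero, add_zero]
    refine ⟨Fin.snoc v (α • z0 + β • z1), fun i j => ?_, fun i => ?_⟩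
    · refine Fin.lastCases ?_ (fun i => ?_) i <;> refine Fin.lastCases ?_ (fun j => ?_) j <;> intro hij
      · exact absurd rfl hij
      · simp only [Fin.snoc_last, Fin.snoc_castSucc]; rw [polar_comm]; exact hxp j
      · simp only [Fin.snoc_last, Fin.snoc_castSucc]; exact hxp i
      · simp only [Fin.snoc_castSucc]; exact hv i j (fun e => hij (congrArg Fin.castSucc e))
    · refine Fin.lastCases ?_ (fun i => ?_) i
      · rw [Fin.snoc_last]; exact hx
      · rw [Fin.snoc_castSucc]; exact hvc i

omit hQ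

/-- An orthogonal pair carries an orthogonal pair starting with a prescribed value. -/
theorem exists_pair {e f : ι → F} (he : Q e ≠ 0) (hf : Q f ≠ 0) (hef : polar ⇑Q e f = 0) {c : F} (hc : c ≠ 0)
    (P : Submodule F (ι → F)) (heP : e ∈ P) (hfP : f ∈ P) :
    ∃ a a' : ι → F, a ∈ Submodule.span F {e, f} ∧ a' ∈ Submodule.span F {e, f} ∧ a ∈ P ∧ a' ∈ P ∧
      Q a = c ∧ Q a' ≠ 0 ∧ polar ⇑Q a a' = 0 := by
  obtain ⟨α, β, hab⟩ := Orth.exists_value_of_orth h2 he hf hef c
  have hfe : polar ⇑Q f e = 0 := by rw [polar_comm]; exact hef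
  have hpee : polar ⇑Q e e = 2 * Q e := Orth.polar_self_eq e
  have hpff : polar ⇑Q f f = 2 * Q f := Orth.polar_self_eq f
  have hmem : ∀ x y : F, x • e + y • f ∈ Submodule.span F {e, f} := fun x y =>
    Submodule.add_mem _ (Submodule.smul_mem _ _ (Submodule.subset_span (Set.mem_insert _ _)))
      (Submodule.smul_mem _ _ (Submodule.subset_span (Set.mem_insert_of_mem _ rfl)))
  have hP : ∀ x y : F, x • e + y • f ∈ P := fun x y => P.add_mem (P.smul_mem _ heP) (P.smul_mem _ hfP)
  have hQv : ∀ x y : F, Q (x • e + y • f) = x * x * Q e + y * y * Q f := fun x y => by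
    rw [QuadraticMap.map_add (⇑Q), polar_smul_left, polar_smul_right, hef, smul_zero, smul_zero, add_zero,
      QuadraticMap.map_smul, QuadraticMap.map_smul, smul_eq_mul, smul_eq_mul]
  refine ⟨α • e + β • f, (β * Q f) • e + (-(α * Q e)) • f, hmem _ _, hmem _ _, hP _ _, hP _ _, hab, ?_, ?_⟩
  · have h1 : Q ((β * Q f) • e + (-(α * Q e)) • f) = Q e * Q f * c := by
      rw [← hab, hQv, hQv]; ring
    rw [h1]
    exact mul_ne_zero (mul_ne_zero he hf) hc
  · simp only [polar_add_left, polar_add_right, polar_smul_left, polar_smul_right, hef, hfe, hpee, hpff,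
      smul_eq_mul]
    ring

/-- Three mutually orthogonal vectors, two of them of prescribed value, in a non-degenerate subspace of dimension
at least three. -/
theorem exists_triple (U : Submodule F (ι → F)) (hU : (LinearMap.BilinForm.restrict (QuadraticMap.polarBilin Q) U).Nondegenerate)
    (hd : 3 ≤ finrank F U) {c d : F} (hc : c ≠ 0) (hd' : d ≠ 0) :
    ∃ a b x : ι → F, a ∈ U ∧ b ∈ U ∧ x ∈ U ∧ Q a = c ∧ Q b = d ∧ Q x ≠ 0 ∧
      polar ⇑Q a b = 0 ∧ polar ⇑Q a x = 0 ∧ polar ⇑Q b x = 0 := by
  haveI : Invertible (2 : F) := invertibleOfNonzero h2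
  obtain ⟨e, he⟩ := LinearMap.BilinForm.exists_orthogonal_basis
    (B := LinearMap.BilinForm.restrict (QuadraticMap.polarBilin Q) U)
    ⟨fun x y => polar_comm (⇑Q) x.1 y.1⟩
  have hne : ∀ i, Q (e i).1 ≠ 0 := fun i h0 => e.ne_zero i (hU.1 _ fun y => by
    conv_lhs => rw [← e.sum_repr y]
    rw [map_sum]
    refine Finset.sum_eq_zero fun j _ => ?_
    rw [map_smul]
    rcases eq_or_ne i j with rfl | h
    · show _ • polar ⇑Q (e i).1 (e i).1 = _
      rw [polar_self, h0, smul_zero, smul_zero]
    · rw [he h, smul_zero])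
  let i0 : Fin (finrank F U) := ⟨0, by omega⟩
  let i1 : Fin (finrank F U) := ⟨1, by omega⟩
  let i2 : Fin (finrank F U) := ⟨2, by omega⟩
  have o01 : polar ⇑Q (e i0).1 (e i1).1 = 0 := he (i := i0) (j := i1) (by simp [i0, i1, Fin.ext_iff])
  have o02 : polar ⇑Q (e i0).1 (e i2).1 = 0 := he (i := i0) (j := i2) (by simp [i0, i2, Fin.ext_iff])
  have o12 : polar ⇑Q (e i1).1 (e i2).1 = 0 := he (i := i1) (j := i2) (by simp [i1, i2, Fin.ext_iff])
  obtain ⟨a, a', ha, ha', haU, ha'U, hQa, hQa', haa'⟩ :=
    exists_pair h2 (hne i0) (hne i1) o01 hc U (e i0).2 (e i1).2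
  have hperp : ∀ w ∈ Submodule.span F {(e i0).1, (e i1).1}, polar ⇑Q w (e i2).1 = 0 := fun w hw => by
    obtain ⟨s, t, rfl⟩ := Submodule.mem_span_pair.1 hw
    rw [polar_add_left, polar_smul_left, polar_smul_left, o02, o12, smul_zero, smul_zero, add_zero]
  obtain ⟨b, x, hb, hx, hbU, hxU, hQb, hQx, hbx⟩ :=
    exists_pair h2 hQa' (hne i2) (hperp a' ha') hd' U ha'U (e i2).2
  have hperp' : ∀ w ∈ Submodule.span F {a', (e i2).1}, polar ⇑Q a w = 0 := fun w hw => by
    obtain ⟨s, t, rfl⟩ := Submodule.mem_span_pair.1 hw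
    rw [polar_add_right, polar_smul_right, polar_smul_right, haa', hperp a ha, smul_zero, smul_zero, add_zero]
  exact ⟨a, b, x, haU, hbU, hxU, hQa, hQb, hQx, hperp' b hb, hperp' x hx, hbx⟩

omit [Finite F] in
/-- An Eichler transformation. -/
theorem exists_eichler {p : ℕ} [Fact p.Prime] [CharP F p] {z x : ι → F} (hz : z ≠ 0) (hQz : Q z = 0)
    (hzx : polar ⇑Q x z = 0) (hQx : Q x ≠ 0) (hQ : (QuadraticMap.polarBilin Q).Nondegenerate) (hp2 : p ≠ 2) :
    ∃ u : ↥(isometryGroup F ⇑Q), orderOf u = p ∧
      ∀ h : ↥(isometryGroup F ⇑Q), Orth.app h z = z → Orth.app h x = x → Commute u h := by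
  let D : Module.End F (ι → F) :=
    { toFun := fun y => polar ⇑Q y z • x - (polar ⇑Q y x + Q x * polar ⇑Q y z) • z
      map_add' := fun y y' => by
        simp only [polar_add_left]
        module
      map_smul' := fun s y => by
        simp only [polar_smul_left, smul_eq_mul, RingHom.id_apply]
        module }
  have hD : ∀ y, D y = polar ⇑Q y z • x - (polar ⇑Q y x + Q x * polar ⇑Q y z) • z := fun y => rfl
  have hzz : polar ⇑Q z z = 0 := by rw [Orth.polar_self_eq, hQz, mul_zero]
  have hzx' : polar ⇑Q z x = 0 := by rw [polar_comm]; exact hzx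
  have hDz : D z = 0 := by rw [hD, hzz, hzx']; simp
  have hDx : D x = (-(2 * Q x)) • z := by rw [hD, hzx, Orth.polar_self_eq]; module
  have hD3 : D ^ 3 = 0 := LinearMap.ext fun y => by
    simp only [pow_succ, pow_zero, one_mul, Module.End.mul_apply, LinearMap.zero_apply]
    rw [hD y, map_sub, map_smul, map_smul, hDz, hDx, smul_zero, sub_zero, map_smul, map_smul, hDz, smul_zero,
      smul_zero]
  have hQE : ∀ y, Q (y + D y) = Q y := fun y => by
    rw [hD, sub_eq_add_neg, ← neg_smul, QuadraticMap.map_add (⇑Q), QuadraticMap.map_add (⇑Q),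
      QuadraticMap.map_smul, QuadraticMap.map_smul, hQz, polar_smul_left, polar_smul_right, hzx,
      polar_add_right, polar_smul_right, polar_smul_right]
    simp only [smul_eq_mul]
    ring
  have hinj : Function.Injective (1 + D : Module.End F (ι → F)) := by
    rw [injective_iff_map_eq_zero]
    intro y hy
    have h1 : y = -D y := eq_neg_of_add_eq_zero_left hy
    have h3 : (D ^ 3) y = 0 := by rw [hD3]; rfl
    simp only [pow_succ, pow_zero, one_mul, Module.End.mul_apply] at h3
    have e1 : D y = -D (D y) := by conv_lhs => rw [h1, map_neg]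
    have e2 : D (D y) = -D (D (D y)) := by conv_lhs => rw [e1, map_neg]
    rw [h1, e1, e2, h3]
    simp
  let E : (ι → F) ≃ₗ[F] (ι → F) := LinearEquiv.ofInjectiveEndo (1 + D) hinj
  let u := Orth.ofEquiv Q E fun y => hQE y
  have hu : endHom Q u = 1 + D := LinearMap.ext fun y => Orth.app_ofEquiv (Q := Q) E (fun y => hQE y) y
  haveI : Nontrivial (ι → F) := ⟨⟨z, 0, hz⟩⟩
  haveI : CharP (Module.End F (ι → F)) p :=
    charP_of_injective_algebraMap (algebraMap F (Module.End F (ι → F))).injective p
  refine ⟨u, ?_, fun h hhz hhx => endHom_injective ?_⟩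
  · rw [← orderOf_endHom, hu]
    refine orderOf_eq_prime ?_ fun h => ?_
    · have hp3 : 3 ≤ p := by have := (Fact.out : p.Prime).two_le; omega
      rw [add_pow_char_of_commute p (Commute.one_left D), one_pow, ← Nat.add_sub_cancel' hp3, pow_add, hD3,
        zero_mul, add_zero]
    · have hD0 : D = 0 := add_eq_left.1 h
      obtain ⟨y, hy⟩ : ∃ y, polar ⇑Q y z ≠ 0 := by
        by_contra hne
        push Not at hne
        exact hz (hQ.2 z hne)
      have h0 := LinearMap.congr_fun hD0 y
      rw [hD, LinearMap.zero_apply] at h0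
      have h1 := congrArg (fun w => polar ⇑Q x w) h0
      simp only [polar_sub_right, polar_smul_right, hzx, polar_zero_right, smul_eq_mul, mul_zero, sub_zero,
        Orth.polar_self_eq] at h1
      exact hy ((mul_eq_zero.1 h1).resolve_right (mul_ne_zero h2 hQx))
  · rw [map_mul, map_mul, hu, mul_add, add_mul, one_mul, mul_one]
    congr 1
    refine LinearMap.ext fun y => ?_
    show D (Orth.app h y) = Orth.app h (D y)
    have e1 : polar ⇑Q (Orth.app h y) z = polar ⇑Q y z := by
      conv_lhs => rw [← hhz]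
      exact Orth.polar_app h y z
    have e2 : polar ⇑Q (Orth.app h y) x = polar ⇑Q y x := by
      conv_lhs => rw [← hhx]
      exact Orth.polar_app h y x
    rw [hD, hD, e1, e2, Orth.app_sub, Orth.app_smul, Orth.app_smul, hhz, hhx]

include hQ in
/-- Isometries of a smaller orthogonal space extend. -/
theorem exists_extend_isometry {W : Type*} [AddCommGroup W] [Module F W] [FiniteDimensional F W]
    (T : LinearMap.BilinForm F W) (hT : T.Nondegenerate) (hsym : ∀ x y, T x y = T y x)
    (hd : finrank F W < Fintype.card ι) (S : Module.End F W) (hS : ∀ x y, T (S x) (S y) = T x y) {N : ℕ}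
    (hN : 0 < N) (hSN : S ^ N = 1) :
    ∃ h : ↥(isometryGroup F ⇑Q), orderOf h = orderOf S ∧
      finrank F (movedSpace (endHom Q h)) ≤ finrank F W := by
  haveI : Invertible (2 : F) := invertibleOfNonzero h2
  obtain ⟨e, he⟩ := LinearMap.BilinForm.exists_orthogonal_basis (B := T) ⟨hsym⟩
  have hne : ∀ i, T (e i) (e i) ≠ 0 := fun i h0 => e.ne_zero i (hT.1 _ fun y => by
    conv_lhs => rw [← e.sum_repr y]
    rw [map_sum]
    refine Finset.sum_eq_zero fun j _ => ?_
    rw [map_smul]
    rcases eq_or_ne i j with rfl | h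
    · rw [h0, smul_zero]
    · rw [he h, smul_zero])
  let c := fun i => T (e i) (e i) / 2
  obtain ⟨v, hv, hvc⟩ := exists_family h2 hQ c (fun i => div_ne_zero (hne i) h2) hd
  let L : W →ₗ[F] (ι → F) := e.constr F v
  have hLT : ∀ x y, polar ⇑Q (L x) (L y) = T x y := fun x y => by
    have hext : (QuadraticMap.polarBilin Q).compl₁₂ L L = T := e.ext fun i => e.ext fun j => by
      show polar ⇑Q (L (e i)) (L (e j)) = _
      rw [show L (e i) = v i from e.constr_basis F v i, show L (e j) = v j from e.constr_basis F v j]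
      rcases eq_or_ne i j with rfl | h
      · rw [Orth.polar_self_eq, hvc, mul_div_cancel₀ _ h2]
      · rw [hv i j h, he h]
    exact LinearMap.congr_fun₂ hext x y
  have hQL : ∀ x, 2 * Q (L x) = T x x := fun x => by rw [← hLT, Orth.polar_self_eq]
  let P : (ι → F) →ₗ[F] W :=
    { toFun := fun y => ∑ i, (polar ⇑Q (v i) y / T (e i) (e i)) • e i
      map_add' := fun y y' => by simp only [polar_add_right, add_div, add_smul, Finset.sum_add_distrib]
      map_smul' := fun s y => by
        simp only [polar_smul_right, smul_eq_mul, mul_div_assoc, mul_smul, ← Finset.smul_sum, RingHom.id_apply] }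
  have hPL : ∀ x, P (L x) = x := fun x => by
    have : P ∘ₗ L = LinearMap.id := e.ext fun i => by
      show ∑ j, (polar ⇑Q (v j) (L (e i)) / T (e j) (e j)) • e j = e i
      rw [show L (e i) = v i from e.constr_basis F v i, Finset.sum_eq_single i]
      · rw [Orth.polar_self_eq, hvc, mul_div_cancel₀ _ h2, div_self (hne i), one_smul]
      · intro j _ hji; rw [hv j i hji, zero_div, zero_smul]
      · simp
    exact LinearMap.congr_fun this x
  have hperp : ∀ x y, polar ⇑Q (L x) (y - L (P y)) = 0 := by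
    intro x y
    have key : ∀ i, polar ⇑Q (v i) (y - L (P y)) = 0 := fun i => by
      have h := congrArg (fun w => T (e i) w) (hPL (P y))
      rw [polar_sub_right, sub_eq_zero, ← show L (e i) = v i from e.constr_basis F v i, hLT]
      show _ = T (e i) (∑ j, (polar ⇑Q (v j) y / T (e j) (e j)) • e j)
      rw [map_sum, Finset.sum_eq_single i]
      · rw [map_smul, smul_eq_mul, show L (e i) = v i from e.constr_basis F v i, div_mul_cancel₀ _ (hne i)]
      · intro j _ hji; rw [map_smul, he (Ne.symm hji), smul_zero]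
      · simp
    have hall : (QuadraticMap.polarBilin Q).flip (y - L (P y)) ∘ₗ L = 0 := e.ext fun i => by
      show polar ⇑Q (L (e i)) _ = 0
      rw [show L (e i) = v i from e.constr_basis F v i]
      exact key i
    exact LinearMap.congr_fun hall x
  let Ψ : Module.End F W →* Module.End F (ι → F) :=
    { toFun := fun R => L ∘ₗ (R - 1) ∘ₗ P + 1
      map_one' := by simp
      map_mul' := fun R R' => LinearMap.ext fun y => by
        simp only [LinearMap.add_apply, LinearMap.comp_apply, LinearMap.sub_apply, Module.End.one_apply,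
          Module.End.mul_apply, map_add, map_sub, hPL]
        abel }
  have hΨ : ∀ R y, Ψ R y = L (R (P y)) + (y - L (P y)) := fun R y => by
    simp only [Ψ, MonoidHom.coe_mk, OneHom.coe_mk, LinearMap.add_apply, LinearMap.comp_apply,
      LinearMap.sub_apply, Module.End.one_apply, map_sub]
    abel
  have hΨinj : Function.Injective Ψ := fun R R' h => LinearMap.ext fun x => by
    have h1 := LinearMap.congr_fun h (L x)
    rw [hΨ, hΨ, hPL, sub_self, add_zero, add_zero] at h1
    have h3 := congrArg P h1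
    rwa [hPL, hPL] at h3
  have hQΨ : ∀ y, Q (Ψ S y) = Q y := fun y => by
    have h1 : ∀ x, Q (L x + (y - L (P y))) = Q (L x) + Q (y - L (P y)) := fun x => by
      rw [QuadraticMap.map_add (⇑Q), hperp, add_zero]
    have h3 : Q (L (S (P y))) = Q (L (P y)) := mul_left_cancel₀ h2 (by rw [hQL, hQL, hS])
    rw [hΨ, h1, h3, ← h1, add_sub_cancel]
  have hinv : Ψ (S ^ (N - 1)) * Ψ S = 1 := by
    rw [← map_mul, ← pow_succ, Nat.sub_add_cancel hN, hSN, map_one]
  have hinj' : Function.Injective (Ψ S) := fun y y' h => by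
    have := congrArg (Ψ (S ^ (N - 1))) h
    rwa [← Module.End.mul_apply, ← Module.End.mul_apply, hinv] at this
  let h := Orth.ofEquiv Q (LinearEquiv.ofInjectiveEndo (Ψ S) hinj') hQΨ
  have hh : endHom Q h = Ψ S := LinearMap.ext fun y => Orth.app_ofEquiv (Q := Q) (LinearEquiv.ofInjectiveEndo (Ψ S) hinj') hQΨ y
  refine ⟨h, by rw [← orderOf_endHom, hh, orderOf_injective Ψ hΨinj], ?_⟩
  rw [hh]
  refine (Submodule.finrank_mono (show movedSpace (Ψ S) ≤ LinearMap.range L from ?_)).trans
    (LinearMap.finrank_range_le L)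
  rintro _ ⟨y, rfl⟩
  refine ⟨S (P y) - P y, ?_⟩
  rw [LinearMap.sub_apply, hΨ, map_sub, Module.End.one_apply]
  abel

end Cfsg.Agent.Lib.PrimeGraphBC
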