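import Mathlib
import Cfsg.Agent.Lib.Orth.Spinor
import Cfsg.Agent.Lib.Orth.StandardOdd
import Cfsg.Agent.Lib.PrimeGraphBC.Extend

/-!
The number of vectors of norm one in the standard `(2n+1)`-dimensional quadratic space, and the spinor sign of
an involution with a one-dimensional fixed space.
-/

set_option autoImplicit false

namespace Cfsg.Agent.Lib.PrimeGraphBC

open QuadraticMap Module

variable {F : Type*} [Field F] [Fintype F] {q n : ℕ}

theorem card_unit_quadric (hF : Fintype.card F = q) (h2 : (2 : F) ≠ 0) (hn : 1 ≤ n) :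
    Nat.card {v : Unit ⊕ (Fin n ⊕ Fin n) → F // Orth.oddForm n F v = 1} = q ^ (2 * n) + q ^ n := by
  classical
  let e : {v : Unit ⊕ (Fin n ⊕ Fin n) → F // Orth.oddForm n F v = 1} ≃
      Σ b : Fin n → F, {xa : F × (Fin n → F) // xa.1 ^ 2 + ∑ i, xa.2 i * b i = 1} :=
    { toFun := fun v => ⟨fun i => v.1 (.inr (.inr i)),
        ⟨(v.1 (.inl ()), fun i => v.1 (.inr (.inl i))), by
          exact (congrFun (Orth.coe_oddForm n) v.1).symm.trans v.2⟩⟩
      invFun := fun z => ⟨Sum.elim (fun _ => z.2.1.1) (Sum.elim z.2.1.2 z.1), by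
        rw [Orth.coe_oddForm]
        exact z.2.2⟩
      left_inv := fun v => Subtype.ext (funext fun k => by rcases k with u | i | i <;> rfl)
      right_inv := fun z => rfl }
  have hcardV : Nat.card (Fin n → F) = q ^ n := by
    rw [Nat.card_eq_fintype_card, Fintype.card_fun, Fintype.card_fin, hF]
  have hq : 1 ≤ q := hF ▸ Fintype.card_pos
  have hfib : ∀ b : Fin n → F, Nat.card {xa : F × (Fin n → F) // xa.1 ^ 2 + ∑ i, xa.2 i * b i = 1} =
      if b = 0 then 2 * q ^ n else q ^ n := by
    intro b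
    split_ifs with hb
    · subst hb
      let e2 : {xa : F × (Fin n → F) // xa.1 ^ 2 + ∑ i, xa.2 i * (0 : Fin n → F) i = 1} ≃
          {x : F // x ^ 2 = 1} × (Fin n → F) :=
        { toFun := fun z => (⟨z.1.1, by simpa using z.2⟩, z.1.2)
          invFun := fun z => ⟨(z.1.1, z.2), by simpa using z.1.2⟩
          left_inv := fun z => rfl
          right_inv := fun z => rfl }
      have h1 : Nat.card {x : F // x ^ 2 = 1} = 2 := by
        rw [Nat.card_eq_fintype_card, Fintype.card_subtype]
        have : (Finset.univ.filter fun x : F => x ^ 2 = 1) = {1, -1} := by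
          ext x; simp [sq_eq_one_iff]
        rw [this, Finset.card_pair]
        intro h
        exact h2 (by linear_combination h)
      rw [Nat.card_congr e2, Nat.card_prod, h1, hcardV]
    · obtain ⟨i0, hi0⟩ := Function.ne_iff.1 hb
      rw [Pi.zero_apply] at hi0
      let L : (Fin n → F) →ₗ[F] F :=
        { toFun := fun a => ∑ i, a i * b i
          map_add' := fun a a' => by simp [add_mul, Finset.sum_add_distrib]
          map_smul' := fun s a => by simp [Finset.mul_sum, mul_assoc] }
      have hL : Function.Surjective L := LinearMap.surjective_iff_ne_zero.2 fun h => hi0 (by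
        have := LinearMap.congr_fun h (Pi.single i0 1)
        simpa [L, Pi.single_apply] using this)
      have hker : Nat.card L.toAddMonoidHom.ker * q = q ^ n := by
        have h1 := L.toAddMonoidHom.ker.card_mul_index
        rw [AddSubgroup.index_ker, hcardV, AddMonoidHom.range_eq_top.2 hL, AddSubgroup.card_top,
          Nat.card_eq_fintype_card (α := F), hF] at h1
        exact h1
      choose a0 ha0 using fun x : F => hL (1 - x ^ 2)
      let e2 : {xa : F × (Fin n → F) // xa.1 ^ 2 + ∑ i, xa.2 i * b i = 1} ≃ F × L.toAddMonoidHom.ker :=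
        { toFun := fun z => (z.1.1, ⟨z.1.2 - a0 z.1.1, by
            show L (z.1.2 - a0 z.1.1) = 0
            rw [map_sub, ha0]
            show ∑ i, z.1.2 i * b i - (1 - z.1.1 ^ 2) = 0
            linear_combination z.2⟩)
          invFun := fun z => ⟨(z.1, z.2.1 + a0 z.1), by
            show z.1 ^ 2 + L (z.2.1 + a0 z.1) = 1
            rw [map_add, ha0, show L z.2.1 = 0 from z.2.2]
            ring⟩
          left_inv := fun z => Subtype.ext (Prod.ext rfl (sub_add_cancel _ _))
          right_inv := fun z => Prod.ext rfl (Subtype.ext (add_sub_cancel_right _ _)) }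
      rw [Nat.card_congr e2, Nat.card_prod, Nat.card_eq_fintype_card (α := F), hF, mul_comm, hker]
  rw [Nat.card_congr e, Nat.card_sigma, Finset.sum_congr rfl fun b _ => hfib b, Finset.sum_ite,
    Finset.sum_const, Finset.sum_const, Finset.filter_eq' Finset.univ (0 : Fin n → F),
    if_pos (Finset.mem_univ _), Finset.card_singleton, Finset.filter_ne' Finset.univ (0 : Fin n → F),
    Finset.card_erase_of_mem (Finset.mem_univ _), Finset.card_univ, Fintype.card_fun, Fintype.card_fin, hF,
    smul_eq_mul, smul_eq_mul, two_mul n, pow_add, one_mul, Nat.sub_mul, one_mul]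
  have : q ^ n ≤ q ^ n * q ^ n := Nat.le_mul_of_pos_left _ (Nat.one_le_pow _ _ hq)
  omega

/-- The spinor value of an involution `y` with one-dimensional fixed space, equal to that of an element `h` of
odd prime order `r ∣ q^n - δ`. -/
theorem spinor_involution (hF : Fintype.card F = q) (hp2 : Odd q) (h2 : (2 : F) ≠ 0) (hn : 1 ≤ n) {r : ℕ} [Fact r.Prime] (hr2 : r ≠ 2)
    (h y : ↥(isometryGroup F ⇑(Orth.oddForm n F))) (hh : orderOf h = r) (hy2 : y * y = 1)
    (hfix : ∀ v, Orth.app y v = v ↔ Orth.app h v = v)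
    (hd : finrank F (fixedSpace (endHom (Orth.oddForm n F) h)) = 1) :
    (r ∣ q ^ n + 1 → (Orth.spinor (Orth.oddForm n F) y = 1 ↔ 4 ∣ q ^ n + 1)) ∧
      (r ∣ q ^ n - 1 → (Orth.spinor (Orth.oddForm n F) y = 1 ↔ 4 ∣ q ^ n - 1)) := by
  classical
  let X := {v : Unit ⊕ (Fin n ⊕ Fin n) → F // (Orth.oddForm n F) v = 1}
  haveI : Fintype X := Fintype.ofFinite X
  let σ := Orth.unitPerm (Orth.oddForm n F) y
  let τ := Orth.unitPerm (Orth.oddForm n F) h
  have hsp : Orth.spinor (Orth.oddForm n F) y = Equiv.Perm.sign σ := by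
    simp only [Orth.spinor, MonoidHom.comp_apply]
    convert rfl
  have hσ2 : σ ^ 2 = 1 := by rw [_root_.sq, ← map_mul, hy2, map_one]
  have hτr : τ ^ r ^ 1 = 1 := by rw [pow_one, ← map_pow, ← hh, pow_orderOf_eq_one, map_one]
  have hfe : Fintype.card (Function.fixedPoints σ) = Fintype.card (Function.fixedPoints τ) :=
    Fintype.card_congr (Equiv.subtypeEquivRight fun x => by
      show σ x = x ↔ τ x = x
      rw [Subtype.ext_iff, Subtype.ext_iff]
      exact hfix x.1)
  have hmod : Fintype.card X ≡ Fintype.card (Function.fixedPoints τ) [MOD r] := by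
    let τ' : Function.End X := fun x => τ x
    refine Equiv.Perm.card_fixedPoints_modEq (p := r) (n := 1) (f := τ') ?_
    funext x
    have h' := Equiv.Perm.ext_iff.1 hτr x
    rw [pow_one] at h' ⊢
    have hcoe : ∀ (i : ℕ) (x : X), (τ' ^ i) x = (τ ^ i) x := fun i => by
      induction i with
      | zero => exact fun _ => rfl
      | succ i ih => intro x; rw [pow_succ, pow_succ]; exact ih _
    exact (hcoe r x).trans h'
  have hf2 : Fintype.card (Function.fixedPoints τ) ≤ 2 := by
    obtain ⟨⟨z, hz⟩, hz0, hzspan⟩ := finrank_eq_one_iff'.1 hd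
    have hline : ∀ x : X, τ x = x → ∃ t : F, x.1 = t • z ∧ t * t * (Orth.oddForm n F) z = 1 := fun x hx => by
      obtain ⟨t, ht⟩ := hzspan ⟨x.1, mem_fixedSpace.2 (congrArg Subtype.val hx)⟩
      have h' : t • z = x.1 := congrArg Subtype.val ht
      refine ⟨t, h'.symm, ?_⟩
      have h'' := x.2
      rw [← h', QuadraticMap.map_smul, smul_eq_mul] at h''
      exact h''
    choose t ht htQ using hline
    have hinj : Function.Injective (fun x : Function.fixedPoints τ => t x.1 x.2) := fun a b hab => by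
      refine Subtype.ext (Subtype.ext ?_)
      rw [ht a.1 a.2, ht b.1 b.2]
      exact congrArg (· • z) hab
    rw [← Finset.card_univ, ← Finset.card_image_of_injective _ hinj]
    rcases (Finset.univ.image fun x : Function.fixedPoints τ => t x.1 x.2).eq_empty_or_nonempty with he | ⟨t0, ht0⟩
    · rw [he]; simp
    · refine (Finset.card_le_card (t := {t0, -t0}) fun s hs => ?_).trans Finset.card_le_two
      obtain ⟨a, -, rfl⟩ := Finset.mem_image.1 hs
      obtain ⟨b, -, rfl⟩ := Finset.mem_image.1 ht0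
      have h1 := htQ a.1 a.2
      have h3 := htQ b.1 b.2
      have hQz : (Orth.oddForm n F) z ≠ 0 := fun h => by rw [h, mul_zero] at h1; exact zero_ne_one h1
      have h4 : (t a.1 a.2) * (t a.1 a.2) = (t b.1 b.2) * (t b.1 b.2) := mul_right_cancel₀ hQz (h1.trans h3.symm)
      rcases mul_self_eq_mul_self_iff.1 h4 with h' | h' <;> simp [h']
  have hX : Fintype.card X = q ^ (2 * n) + q ^ n := by
    rw [← Nat.card_eq_fintype_card]; exact card_unit_quadric hF h2 hn
  set f := Fintype.card (Function.fixedPoints τ) with hf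
  have hsign : Orth.spinor (Orth.oddForm n F) y = (-1) ^ ((q ^ (2 * n) + q ^ n - f) / 2) := by
    rw [hsp, Equiv.Perm.sign_of_pow_two_eq_one hσ2, hX, hfe]
  have hr3 : 2 < r := lt_of_le_of_ne (Fact.out : r.Prime).two_le (Ne.symm hr2)
  rw [hX] at hmod
  have hpar : ∀ k : ℕ, (-1 : ℤˣ) ^ k = 1 ↔ k % 2 = 0 := fun k => by
    rw [neg_one_pow_eq_one_iff_even (R := ℤˣ) (by decide), Nat.even_iff]
  obtain ⟨c, hc⟩ : Odd (q ^ n) := hp2.pow
  have hq2n : q ^ (2 * n) = 4 * (c * c + c) + 1 := by rw [two_mul, pow_add, hc]; ring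
  have hev : ∀ {a b : ℕ}, a ≤ 2 → b ≤ 2 → a ≡ b [MOD r] → a = b := fun ha hb hab => by
    rw [Nat.ModEq, Nat.mod_eq_of_lt (by omega), Nat.mod_eq_of_lt (by omega)] at hab
    exact hab
  refine ⟨fun hd1 => ?_, fun hd1 => ?_⟩
  · have h0 : q ^ (2 * n) + q ^ n ≡ 0 [MOD r] := by
      rw [Nat.modEq_zero_iff_dvd, two_mul, pow_add, show q ^ n * q ^ n + q ^ n = q ^ n * (q ^ n + 1) by ring]
      exact hd1.mul_left _
    have hf0 : f = 0 := hev hf2 (by omega) (hmod.symm.trans h0)
    rw [hsign, hpar, hf0]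
    omega
  · have h1 : 1 ≡ q ^ n [MOD r] := (Nat.modEq_iff_dvd' (Nat.one_le_pow _ _ (hF ▸ Fintype.card_pos))).2 hd1
    have h0 : q ^ (2 * n) + q ^ n ≡ 2 [MOD r] := by
      rw [two_mul, pow_add]
      exact ((h1.symm.mul h1.symm).add h1.symm).trans (by rfl)
    have hf0 : f = 2 := hev hf2 le_rfl (hmod.symm.trans h0)
    rw [hsign, hpar, hf0]
    omega

end Cfsg.Agent.Lib.PrimeGraphBC
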