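import Mathlib
import Cfsg.Agent.Lib.PrimeGraphBC.Extend
import Cfsg.Agent.Lib.Forms.Bridge
import Cfsg.Agent.Lib.Semisimple.SympDarboux
import Cfsg.Agent.Lib.SympPrimeGraph.Elements
import Cfsg.Agent.Lib.Orth.StandardOdd

/-!
Odd-order elements prime to the characteristic of `O_{2n+1}(q)` and of `Sp_{2n}(q)` correspond: the twisted
form on the moved space exchanges the symmetric and alternating cases.
-/

set_option autoImplicit false

namespace Cfsg.Agent.Lib.PrimeGraphBC

open Module QuadraticMap
open scoped Matrix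

variable {ι : Type} [Fintype ι] [DecidableEq ι] {F : Type*} [Field F] {Q : QuadraticForm F (ι → F)}

/-- The centraliser of an odd-order element acts symplectically on its moved space. -/
theorem exists_symp_hom (h2 : (2 : F) ≠ 0) (hQ : (QuadraticMap.polarBilin Q).Nondegenerate)
    (h : ↥(isometryGroup F ⇑Q)) {N : ℕ} (hNodd : Odd N) (hNF : (N : F) ≠ 0) (hhN : h ^ N = 1) :
    ∃ (b : ℕ) (π : ↥(Subgroup.centralizer ({h} : Set ↥(isometryGroup F ⇑Q))) →* ↥(Matrix.symplecticGroup (Fin b) F)),
      b + b + finrank F (fixedSpace (endHom Q h)) = Fintype.card ι ∧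
      orderOf (π ⟨h, Subgroup.mem_centralizer_singleton_iff.2 rfl⟩) = orderOf h ∧
      ∀ u (c : F), (π u : Matrix (Fin b ⊕ Fin b) (Fin b ⊕ Fin b) F) = c • 1 →
        ∀ v ∈ movedSpace (endHom Q h), Orth.app u.1 v = c • v := by
  classical
  set S := endHom Q h with hSdef
  have hSN : S ^ N = 1 := by rw [hSdef, ← map_pow, hhN, map_one]
  let B : LinearMap.BilinForm F (ι → F) := QuadraticMap.polarBilin Q
  have hsym : ∀ x y, B x y = B y x := fun x y => polar_comm (⇑Q) x y
  have hS : ∀ x y, B (S x) (S y) = B x y := endHom_isometry h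
  have hε : ∀ x y, B x y = 1 * B y x := fun x y => by rw [one_mul]; exact hsym x y
  let T := twist B S N
  have hT : T.Nondegenerate := twist_nondegenerate hQ hε one_ne_zero hS hNodd hNF hSN
  let bW := Module.finBasis F (movedSpace S)
  set H := LinearMap.BilinForm.toMatrix bW T with hH
  have hHalt : Semisimple.IsAltMat H := fun v => by
    rw [hH, LinearMap.BilinForm.dotProduct_toMatrix_mulVec]
    exact twist_self hsym hS hNodd.pos hSN _
  have hHu : IsUnit H := (Matrix.isUnit_iff_isUnit_det H).2
    (Ne.isUnit ((LinearMap.BilinForm.nondegenerate_iff_det_ne_zero bW).1 hT))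
  obtain ⟨b, hb, Qm, R, hQR, hRQ, hHQ⟩ := Semisimple.darboux H hHalt hHu
  have hcomm : ∀ u : ↥(Subgroup.centralizer ({h} : Set ↥(isometryGroup F ⇑Q))), Commute (endHom Q u.1) S :=
    fun u => (show Commute u.1 h from Subgroup.mem_centralizer_singleton_iff.1 u.2).map (endHom Q)
  let ρ : ↥(Subgroup.centralizer ({h} : Set ↥(isometryGroup F ⇑Q))) →* Module.End F (movedSpace S) :=
    { toFun := fun u => (endHom Q u.1).restrict fun _ hv => apply_mem_movedSpace (hcomm u) hv
      map_one' := LinearMap.ext fun v => Subtype.ext (by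
        show endHom Q 1 v.1 = v.1
        rw [map_one]; rfl)
      map_mul' := fun u u' => LinearMap.ext fun v => Subtype.ext (by
        show endHom Q (u.1 * u'.1) v.1 = _
        rw [map_mul]; rfl) }
  let A := fun u => LinearMap.toMatrixAlgEquiv bW (ρ u)
  let C : Matrix (Fin (finrank F (movedSpace S))) (Fin (finrank F (movedSpace S))) F →*
      Matrix (Fin b ⊕ Fin b) (Fin b ⊕ Fin b) F :=
    { toFun := fun M => Qm * M * R
      map_one' := by rw [Matrix.mul_one, hQR]
      map_mul' := fun M M' => by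
        calc Qm * (M * M') * R = Qm * M * ((R * Qm) * (M' * R)) := by
              rw [hRQ, Matrix.one_mul]; simp only [Matrix.mul_assoc]
          _ = _ := by simp only [Matrix.mul_assoc] }
  have hCinj : Function.Injective C := fun M M' hM => by
    have h' := congrArg (fun X => R * X * Qm) hM
    simp only [C, MonoidHom.coe_mk, OneHom.coe_mk] at h'
    calc M = (R * Qm) * M * (R * Qm) := by rw [hRQ, Matrix.one_mul, Matrix.mul_one]
      _ = R * (Qm * M * R) * Qm := by simp only [Matrix.mul_assoc]
      _ = R * (Qm * M' * R) * Qm := h'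
      _ = (R * Qm) * M' * (R * Qm) := by simp only [Matrix.mul_assoc]
      _ = M' := by rw [hRQ, Matrix.one_mul, Matrix.mul_one]
  have hiso : ∀ u, (A u)ᵀ * H * A u = H := fun u => by
    have h' := LinearMap.BilinForm.toMatrix_comp bW bW T (ρ u) (ρ u)
    have h'' : T.comp (ρ u) (ρ u) = T :=
      LinearMap.ext fun x => LinearMap.ext fun y => twist_isometry (endHom_isometry u.1) (hcomm u) x y
    rw [h''] at h'
    exact h'.symm
  have hmem : ∀ u, C (A u) ∈ Matrix.symplecticGroup (Fin b) F := fun u => by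
    rw [SymplecticGroup.mem_iff']
    show (Qm * A u * R)ᵀ * Matrix.J (Fin b) F * (Qm * A u * R) = Matrix.J (Fin b) F
    calc (Qm * A u * R)ᵀ * Matrix.J (Fin b) F * (Qm * A u * R)
        = Rᵀ * ((A u)ᵀ * (Qmᵀ * Matrix.J (Fin b) F * Qm) * A u) * R := by
          simp only [Matrix.transpose_mul, Matrix.mul_assoc]
      _ = (Qm * R)ᵀ * Matrix.J (Fin b) F * (Qm * R) := by
          rw [hHQ, hiso, ← hHQ]; simp only [Matrix.transpose_mul, Matrix.mul_assoc]
      _ = Matrix.J (Fin b) F := by rw [hQR, Matrix.transpose_one, Matrix.one_mul, Matrix.mul_one]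
  let π := ((C.comp (LinearMap.toMatrixAlgEquiv bW).toMonoidHom).comp ρ).codRestrict
    (Matrix.symplecticGroup (Fin b) F) hmem
  refine ⟨b, π, ?_, ?_, ?_⟩
  · rw [hb, add_comm, Submodule.finrank_add_eq_of_isCompl (isCompl_fixed_moved hNF hSN),
      Module.finrank_fintype_fun_eq_card]
  · rw [← orderOf_injective (Matrix.symplecticGroup (Fin b) F).subtype Subtype.val_injective]
    show orderOf (C (LinearMap.toMatrixAlgEquiv bW (ρ ⟨h, _⟩))) = _
    rw [orderOf_injective C hCinj, ← orderOf_endHom h]
    exact (orderOf_injective (LinearMap.toMatrixAlgEquiv bW).toMulEquiv.toMonoidHom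
      (LinearMap.toMatrixAlgEquiv bW).injective _).trans (orderOf_restrict_moved hNF hSN)
  · intro u c hu v hv
    have h1 : C (A u) = C (c • 1) := by
      refine hu.trans ?_
      show _ = Qm * (c • (1 : Matrix (Fin (finrank F (movedSpace S))) (Fin (finrank F (movedSpace S))) F)) * R
      rw [Matrix.mul_smul, Matrix.mul_one, Matrix.smul_mul, hQR]
    have h3 : ρ u = c • 1 := (LinearMap.toMatrixAlgEquiv bW).injective (by
      rw [map_smul, map_one]; exact hCinj h1)
    exact congrArg Subtype.val (LinearMap.congr_fun h3 ⟨v, hv⟩)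

variable [Fintype F]

/-- From `Sp_{2m}(q)` to `O_{2n+1}(q)`. -/
theorem exists_orth_of_sp (h2 : (2 : F) ≠ 0) (hQ : (QuadraticMap.polarBilin Q).Nondegenerate) {m : ℕ}
    (hm : m + m < Fintype.card ι) (x : ↥(Matrix.symplecticGroup (Fin m) F)) (hodd : Odd (orderOf x))
    (hNF : (orderOf x : F) ≠ 0) :
    ∃ h : ↥(isometryGroup F ⇑Q), orderOf h = orderOf x ∧
      finrank F (movedSpace (endHom Q h)) ≤ m + m := by
  classical
  let M := (Matrix.toLinAlgEquiv' (R := F) (n := Fin m ⊕ Fin m)) (x : Matrix (Fin m ⊕ Fin m) (Fin m ⊕ Fin m) F)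
  have hMo : orderOf M = orderOf x := by
    show orderOf ((Matrix.toLinAlgEquiv' (R := F) (n := Fin m ⊕ Fin m)).toMonoidHom _) = _
    rw [orderOf_injective _ (Matrix.toLinAlgEquiv' (R := F) (n := Fin m ⊕ Fin m)).injective,
      ← orderOf_injective (Matrix.symplecticGroup (Fin m) F).subtype Subtype.val_injective x]
    rfl
  set N := orderOf x with hN
  have hMN : M ^ N = 1 := by rw [← hMo, pow_orderOf_eq_one]
  let B := Forms.sympBilin m F
  have hS : ∀ u v, B (M u) (M v) = B u v := fun u v => by
    rw [Forms.sympBilin_apply, Forms.sympBilin_apply]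
    exact Forms.mem_symplecticGroup_iff_preserves.1 x.2 u v
  have hB : B.Nondegenerate := by
    refine ⟨fun u hu => Forms.sympBilin_goodForm.nondeg u ?_, fun u hu => Forms.sympBilin_goodForm.nondeg u ?_⟩
    · intro v
      first
        | exact hu v
        | rw [← LinearMap.IsAlt.neg (Forms.sympBilin_isAlt (m := m) (F := F)) u v, hu v, neg_zero]
    · intro v
      first
        | exact hu v
        | rw [← LinearMap.IsAlt.neg (Forms.sympBilin_isAlt (m := m) (F := F)) v u, hu v, neg_zero]
  have hε : ∀ u v, B u v = (-1 : F) * B v u := fun u v => by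
    rw [neg_one_mul]; exact (LinearMap.IsAlt.neg (Forms.sympBilin_isAlt (m := m) (F := F)) v u).symm
  have hd : finrank F (movedSpace M) ≤ m + m := (Submodule.finrank_le _).trans_eq (by simp)
  obtain ⟨h, hh, hh'⟩ := exists_extend_isometry h2 hQ (twist B M N)
    (twist_nondegenerate hB hε (neg_ne_zero.2 one_ne_zero) hS hodd hNF hMN)
    (fun u v => by rw [twist_symm hε hS hodd.pos hMN u v, neg_neg, one_mul]) (by omega)
    (M.restrict fun _ hv => apply_mem_movedSpace (Commute.refl M) hv)
    (fun u v => twist_isometry hS (Commute.refl M) u v) hodd.pos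
    (by rw [← hMo, ← orderOf_restrict_moved hNF hMN, pow_orderOf_eq_one])
  exact ⟨h, by rw [hh, orderOf_restrict_moved hNF hMN, hMo], hh'.trans hd⟩

end Cfsg.Agent.Lib.PrimeGraphBC
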