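import Mathlib
import Cfsg.Agent.Lib.SympPrimeGraph.Eigen
import Cfsg.Agent.Lib.SympPrimeGraph.Transfer

/-!
Elements of prime order `r` of `Sp_{2n}(q)` with `η(e(r,q)) = n`, and their centralisers.
-/

set_option autoImplicit false

namespace Cfsg.Agent.Lib.PrimeGraphBC

open SympPrimeGraph
open scoped Matrix

variable {F : Type*} [Field F] [Fintype F] {q r n : ℕ} [Fact r.Prime]

/-- A set closed under `x ↦ x^q` and inversion containing a root of order `r` has `2η` elements. -/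
theorem two_half_le_closed {R : Finset (AlgebraicClosure F)} (hr2 : r ≠ 2) (hqr : q.Coprime r)
    (hq : ∀ x ∈ R, x ^ q ∈ R) (hinv : ∀ x ∈ R, x⁻¹ ∈ R) {ξ : AlgebraicClosure F} (hξ : orderOf ξ = r)
    (hR : ξ ∈ R) : 2 * S2381.half (orderOf (q : ZMod r)) ≤ R.card := by
  haveI : NeZero r := ⟨(Fact.out : r.Prime).ne_zero⟩
  exact ((two_half_le_card hr2 hqr).trans (card_signedQ_le hq hinv hqr hξ hR)).trans
    (Finset.card_filter_le _ _)

theorem eigs_facts (hF : Fintype.card F = q) (hr2 : r ≠ 2) (hrF : (r : F) ≠ 0) (hqr : q.Coprime r)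
    {x : ↥(Matrix.symplecticGroup (Fin n) F)} (hx : orderOf x = r) :
    ∃ ξ ∈ eigs (x : Matrix (Fin n ⊕ Fin n) (Fin n ⊕ Fin n) F), orderOf ξ = r ∧
      2 * S2381.half (orderOf (q : ZMod r)) ≤ (eigs (x : Matrix (Fin n ⊕ Fin n) (Fin n ⊕ Fin n) F)).card ∧
      (eigs (x : Matrix (Fin n ⊕ Fin n) (Fin n ⊕ Fin n) F)).card ≤ n + n := by
  have h1 : (x : Matrix (Fin n ⊕ Fin n) (Fin n ⊕ Fin n) F) ^ (r * 1) = 1 := by
    rw [mul_one, ← SubmonoidClass.coe_pow, ← hx, pow_orderOf_eq_one]; rfl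
  have h1' : (x : Matrix (Fin n ⊕ Fin n) (Fin n ⊕ Fin n) F) ^ 1 ≠ 1 := fun h => by
    rw [pow_one] at h
    rw [show x = 1 from Subtype.ext h, orderOf_one] at hx
    exact (Fact.out : r.Prime).one_lt.ne hx
  obtain ⟨ξ, hξ, hξr, hξ1⟩ := exists_eig hrF h1 h1'
  rw [mul_one] at hξr
  rw [pow_one] at hξ1
  have hξo := orderOf_eq_prime hξr hξ1
  exact ⟨ξ, hξ, hξo, two_half_le_closed hr2 hqr (fun _ h => eigs_pow_mem hF h) (fun _ h => eigs_inv_mem x.2 h)
    hξo hξ, (card_eigs_le _).trans_eq (by simp)⟩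

/-- Commuting matrices share the eigenvectors of one with simple spectrum. -/
theorem exists_common_eigen {ι : Type*} [Fintype ι] [DecidableEq ι] {A Y : Matrix ι ι F}
    (hA : (eigs A).card = Fintype.card ι) (hc : Commute A Y) :
    ∃ (w : eigs A → ι → AlgebraicClosure F) (c : eigs A → AlgebraicClosure F),
      LinearIndependent (AlgebraicClosure F) w ∧
      (∀ ξ : eigs A, A.map (algebraMap F (AlgebraicClosure F)) *ᵥ w ξ = (ξ : AlgebraicClosure F) • w ξ) ∧
      (∀ ξ, Y.map (algebraMap F (AlgebraicClosure F)) *ᵥ w ξ = c ξ • w ξ) ∧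
      ∀ (ξ : eigs A) (v : ι → AlgebraicClosure F), A.map (algebraMap F (AlgebraicClosure F)) *ᵥ v = (ξ : AlgebraicClosure F) • v →
        ∃ s : AlgebraicClosure F, v = s • w ξ := by
  classical
  set φ := (algebraMap F (AlgebraicClosure F)).mapMatrix (m := ι) with hφ
  choose w hw0 hwA using fun ξ : eigs A => exists_eigenvector ξ.2
  have hli : LinearIndependent (AlgebraicClosure F) w :=
    Module.End.eigenvectors_linearIndependent' (Matrix.toLin' (φ A)) (fun ξ : eigs A => (ξ : (AlgebraicClosure F)))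
      Subtype.val_injective w fun ξ =>
        ⟨Module.End.mem_eigenspace_iff.2 (by rw [Matrix.toLin'_apply]; exact hwA ξ), hw0 ξ⟩
  have hcard : Fintype.card (eigs A) = Module.finrank (AlgebraicClosure F) (ι → (AlgebraicClosure F)) := by
    rw [Module.finrank_fintype_fun_eq_card, Fintype.card_coe, hA]
  have hspan : Submodule.span (AlgebraicClosure F) (Set.range w) = ⊤ := hli.span_eq_top_of_card_eq_finrank' hcard
  have huniq : ∀ (ξ : eigs A) (v : ι → (AlgebraicClosure F)), A.map (algebraMap F (AlgebraicClosure F)) *ᵥ v = (ξ : (AlgebraicClosure F)) • v → ∃ s : (AlgebraicClosure F), v = s • w ξ := by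
    intro ξ v hv
    obtain ⟨g, hg⟩ := (Submodule.mem_span_range_iff_exists_fun (AlgebraicClosure F)).1
      (show v ∈ Submodule.span (AlgebraicClosure F) (Set.range w) by rw [hspan]; exact Submodule.mem_top)
    refine ⟨g ξ, ?_⟩
    have h1 : ∑ η : eigs A, (g η * ((η : (AlgebraicClosure F)) - (ξ : (AlgebraicClosure F)))) • w η = 0 := by
      calc _ = A.map (algebraMap F (AlgebraicClosure F)) *ᵥ v - (ξ : (AlgebraicClosure F)) • v := by
            rw [← hg, Matrix.mulVec_sum, Finset.smul_sum, ← Finset.sum_sub_distrib]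
            refine Finset.sum_congr rfl fun η _ => ?_
            rw [Matrix.mulVec_smul, hwA, smul_smul, smul_smul, ← sub_smul]
            ring_nf
        _ = 0 := sub_eq_zero.2 hv
    have h2 := Fintype.linearIndependent_iff.1 hli _ h1
    rw [← hg, Finset.sum_eq_single ξ]
    · intro η _ hne
      rw [(mul_eq_zero.1 (h2 η)).resolve_right (sub_ne_zero.2 fun h => hne (Subtype.ext h)), zero_smul]
    · simp
  have hex : ∀ ξ, ∃ s : (AlgebraicClosure F), Y.map (algebraMap F (AlgebraicClosure F)) *ᵥ w ξ = s • w ξ := fun ξ => huniq ξ _ (by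
    rw [Matrix.mulVec_mulVec, ← Matrix.map_mul, hc.eq, Matrix.map_mul, ← Matrix.mulVec_mulVec, hwA,
      Matrix.mulVec_smul])
  choose c hcY using hex
  exact ⟨w, c, hli, hwA, hcY, huniq⟩

/-- If `y ^ 2 = ±1` commutes with such an element, then `y = ±1` or `4` divides `q^n ± 1`. -/
theorem sq_centralizer (hF : Fintype.card F = q) (h2 : (2 : F) ≠ 0) (hr2 : r ≠ 2) (hrF : (r : F) ≠ 0) (hqr : q.Coprime r)
    (hn : S2381.half (orderOf (q : ZMod r)) = n) {x y : ↥(Matrix.symplecticGroup (Fin n) F)}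
    (hx : orderOf x = r) (hxy : Commute x y) :
    ((y : Matrix (Fin n ⊕ Fin n) (Fin n ⊕ Fin n) F) ^ 2 = 1 →
      (y : Matrix (Fin n ⊕ Fin n) (Fin n ⊕ Fin n) F) = 1 ∨ (y : Matrix (Fin n ⊕ Fin n) (Fin n ⊕ Fin n) F) = -1) ∧
    ((y : Matrix (Fin n ⊕ Fin n) (Fin n ⊕ Fin n) F) ^ 2 = -1 →
      (2 ∣ orderOf (q : ZMod r) → 4 ∣ q ^ n + 1) ∧ (¬ 2 ∣ orderOf (q : ZMod r) → 4 ∣ q ^ n - 1)) := by
  classical
  obtain ⟨p, hp⟩ := CharP.exists F
  haveI : Fact p.Prime := ⟨CharP.char_is_prime F p⟩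
  obtain ⟨ξ₀, hξ₀, hξ₀o, hlb, hub⟩ := eigs_facts hF hr2 hrF hqr hx
  have hcA : Commute (x : Matrix (Fin n ⊕ Fin n) (Fin n ⊕ Fin n) F) (y : Matrix (Fin n ⊕ Fin n) (Fin n ⊕ Fin n) F) :=
    hxy.map (Matrix.symplecticGroup (Fin n) F).subtype
  set A := (x : Matrix (Fin n ⊕ Fin n) (Fin n ⊕ Fin n) F) with hA
  set Y := (y : Matrix (Fin n ⊕ Fin n) (Fin n ⊕ Fin n) F) with hY
  set φ := (algebraMap F (AlgebraicClosure F)).mapMatrix (m := Fin n ⊕ Fin n) with hφ
  have hcard : (eigs A).card = Fintype.card (Fin n ⊕ Fin n) := by simp; omega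
  obtain ⟨w, c, hli, hwA, hwY, huniq⟩ := exists_common_eigen hcard hcA
  have hw0 : ∀ ξ, w ξ ≠ 0 := fun ξ => hli.ne_zero ξ
  -- Galois equivariance
  have hgal : ∀ ξ : eigs A, c ⟨(ξ : (AlgebraicClosure F)) ^ q, eigs_pow_mem hF ξ.2⟩ = c ξ ^ q := fun ξ => by
    let Fr : (AlgebraicClosure F) →+* (AlgebraicClosure F) := (FiniteField.frobeniusAlgHom F (AlgebraicClosure F)).toRingHom
    have hFr : ∀ z : (AlgebraicClosure F), Fr z = z ^ q := fun z => by
      show FiniteField.frobeniusAlgHom F (AlgebraicClosure F) z = z ^ q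
      rw [FiniteField.frobeniusAlgHom_apply, hF]
    have hmap : ∀ M : Matrix (Fin n ⊕ Fin n) (Fin n ⊕ Fin n) F, ∀ (v : Fin n ⊕ Fin n → (AlgebraicClosure F)) (s : (AlgebraicClosure F)),
        M.map (algebraMap F (AlgebraicClosure F)) *ᵥ v = s • v → M.map (algebraMap F (AlgebraicClosure F)) *ᵥ (Fr ∘ v) = s ^ q • (Fr ∘ v) := by
      intro M v s hv
      funext i
      have h' := congrArg (fun z => Fr (z i)) hv
      simp only [Matrix.mulVec, dotProduct, map_sum, map_mul, Pi.smul_apply, smul_eq_mul, Matrix.map_apply] at h'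
      simp only [Matrix.mulVec, dotProduct, Pi.smul_apply, smul_eq_mul, Matrix.map_apply, Function.comp_apply]
      rw [← hFr s, ← h']
      refine Finset.sum_congr rfl fun j _ => ?_
      congr 1
      exact ((FiniteField.frobeniusAlgHom F (AlgebraicClosure F)).commutes _).symm
    obtain ⟨s, hs⟩ := huniq ⟨(ξ : (AlgebraicClosure F)) ^ q, eigs_pow_mem hF ξ.2⟩ _ (hmap A _ _ (hwA ξ))
    have hne : Fr ∘ w ξ ≠ 0 := fun h => hw0 ξ (funext fun i => Fr.injective (by
      rw [Pi.zero_apply, map_zero]; exact congrFun h i))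
    have h' := hmap Y _ _ (hwY ξ)
    have h'' : Y.map (algebraMap F (AlgebraicClosure F)) *ᵥ (Fr ∘ w ξ) = c ⟨(ξ : (AlgebraicClosure F)) ^ q, eigs_pow_mem hF ξ.2⟩ • (Fr ∘ w ξ) := by
      rw [hs, Matrix.mulVec_smul, hwY, smul_comm]
    exact smul_left_injective (AlgebraicClosure F) hne (h''.symm.trans h')
  -- symplectic pairing
  let J := (Matrix.J (Fin n) F).map (algebraMap F (AlgebraicClosure F))
  have hpres : ∀ g : ↥(Matrix.symplecticGroup (Fin n) F), ∀ u v : Fin n ⊕ Fin n → (AlgebraicClosure F),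
      (φ g.1 *ᵥ u) ⬝ᵥ J *ᵥ (φ g.1 *ᵥ v) = u ⬝ᵥ J *ᵥ v := fun g u v => by
    rw [← Semisimple.bilin_congr]
    congr 2
    show (g.1.map (algebraMap F (AlgebraicClosure F)))ᵀ * J * g.1.map (algebraMap F (AlgebraicClosure F)) = J
    rw [← Matrix.transpose_map, ← Matrix.map_mul, ← Matrix.map_mul, SymplecticGroup.mem_iff'.1 g.2]
  have horth : ∀ ξ η : eigs A, (ξ : (AlgebraicClosure F)) * η ≠ 1 → w ξ ⬝ᵥ J *ᵥ w η = 0 := fun ξ η hne => by
    have h' := hpres x (w ξ) (w η)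
    simp only [hφ, RingHom.mapMatrix_apply] at h'
    rw [hwA, hwA, Matrix.mulVec_smul, smul_dotProduct, dotProduct_smul, smul_eq_mul, smul_eq_mul, ← mul_assoc] at h'
    exact (mul_eq_zero.1 (show ((ξ : (AlgebraicClosure F)) * η - 1) * (w ξ ⬝ᵥ J *ᵥ w η) = 0 by rw [sub_mul, h', one_mul, sub_self])).resolve_left
      (sub_ne_zero.2 hne)
  have hspan : Submodule.span (AlgebraicClosure F) (Set.range w) = ⊤ := hli.span_eq_top_of_card_eq_finrank'
    (by rw [Module.finrank_fintype_fun_eq_card, Fintype.card_coe, hcard])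
  have hinv : ∀ ξ : eigs A, c ⟨(ξ : (AlgebraicClosure F))⁻¹, eigs_inv_mem x.2 ξ.2⟩ = (c ξ)⁻¹ := fun ξ => by
    set η : eigs A := ⟨(ξ : (AlgebraicClosure F))⁻¹, eigs_inv_mem x.2 ξ.2⟩
    have hξ0 : (ξ : (AlgebraicClosure F)) ≠ 0 := fun h => by
      have h' := eig_pow_eq_one (N := r) (by rw [hA, ← SubmonoidClass.coe_pow, ← hx, pow_orderOf_eq_one]; rfl) ξ.2
      rw [h, zero_pow (Fact.out : r.Prime).ne_zero] at h'
      exact zero_ne_one h'
    have hne : w η ⬝ᵥ J *ᵥ w ξ ≠ 0 := by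
      intro h0
      apply hw0 η
      have hlin : ∀ v : Fin n ⊕ Fin n → (AlgebraicClosure F), w η ⬝ᵥ J *ᵥ v = 0 := fun v => by
        obtain ⟨g, rfl⟩ := (Submodule.mem_span_range_iff_exists_fun (AlgebraicClosure F)).1
          (show v ∈ Submodule.span (AlgebraicClosure F) (Set.range w) by rw [hspan]; exact Submodule.mem_top)
        rw [Matrix.mulVec_sum, dotProduct_sum]
        refine Finset.sum_eq_zero fun ζ _ => ?_
        rw [Matrix.mulVec_smul, dotProduct_smul]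
        by_cases hz : ζ = ξ
        · rw [hz, h0, smul_zero]
        · rw [horth η ζ, smul_zero]
          intro h'
          exact hz (Subtype.ext (mul_left_cancel₀ (inv_ne_zero hξ0) (h'.trans (inv_mul_cancel₀ hξ0).symm)))
      have hJ : IsUnit J := (Matrix.isUnit_iff_isUnit_det J).2 (by
        show IsUnit ((Matrix.J (Fin n) F).map (algebraMap F (AlgebraicClosure F))).det
        rw [← RingHom.mapMatrix_apply, ← RingHom.map_det]
        exact (Matrix.isUnit_det_J (Fin n) F).map _)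
      funext i
      obtain ⟨v, hv⟩ := (Matrix.mulVec_surjective_iff_isUnit.2 hJ) (Pi.single i 1)
      have h' := hlin v
      rw [hv, dotProduct_single, mul_one] at h'
      exact h'
    have h' := hpres y (w η) (w ξ)
    simp only [hφ, RingHom.mapMatrix_apply] at h'
    rw [hwY, hwY, Matrix.mulVec_smul, smul_dotProduct, dotProduct_smul, smul_eq_mul, smul_eq_mul, ← mul_assoc] at h'
    exact eq_inv_of_mul_eq_one_left (mul_right_cancel₀ hne (h'.trans (one_mul _).symm))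
  have hc2 : ∀ (s : F), Y ^ 2 = s • 1 → ∀ ξ, c ξ ^ 2 = algebraMap F (AlgebraicClosure F) s := fun s hs ξ => by
    have h' : φ Y *ᵥ (φ Y *ᵥ w ξ) = c ξ ^ 2 • w ξ := by
      rw [hφ, RingHom.mapMatrix_apply, hwY, Matrix.mulVec_smul, hwY, smul_smul, _root_.sq]
    rw [Matrix.mulVec_mulVec, ← map_mul, ← _root_.sq, hs, hφ, RingHom.mapMatrix_apply,
      Matrix.map_smul' _ _ _ (map_mul (algebraMap F (AlgebraicClosure F))), Matrix.map_one _ (map_zero _) (map_one _),
      Matrix.smul_mulVec, Matrix.one_mulVec] at h'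
    exact smul_left_injective (AlgebraicClosure F) (hw0 ξ) h'.symm
  refine ⟨fun hy2 => ?_, fun hy2 => ?_⟩
  · have hpm : ∀ ξ, c ξ = 1 ∨ c ξ = -1 := fun ξ =>
      sq_eq_one_iff.1 (by rw [hc2 1 (by rw [hy2, one_smul]) ξ, map_one])
    let e := c ⟨ξ₀, hξ₀⟩
    have he : e = 1 ∨ e = -1 := hpm _
    let R' : Finset (AlgebraicClosure F) := (Finset.univ.filter fun ξ : eigs A => c ξ = e).map (Function.Embedding.subtype _)
    have hR' : ∀ z, z ∈ R' ↔ ∃ hz : z ∈ eigs A, c ⟨z, hz⟩ = e := fun z => by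
      simp [R']
    have hall := two_half_le_closed (R := R') hr2 hqr
      (fun z hz => by
        obtain ⟨hz, hce⟩ := (hR' z).1 hz
        refine (hR' _).2 ⟨eigs_pow_mem hF hz, ?_⟩
        rw [hgal ⟨z, hz⟩, hce]
        rcases he with h | h <;> rw [h]
        · exact one_pow q
        · refine Odd.neg_one_pow ?_
          obtain ⟨a, hp', ha⟩ := FiniteField.card F p
          rw [← hF, ha]
          refine (hp'.odd_of_ne_two fun h2' => h2 ?_).pow
          subst h2'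
          simpa using CharP.cast_eq_zero F 2)
      (fun z hz => by
        obtain ⟨hz, hce⟩ := (hR' z).1 hz
        refine (hR' _).2 ⟨eigs_inv_mem x.2 hz, ?_⟩
        rw [hinv ⟨z, hz⟩, hce]
        rcases he with h | h <;> rw [h] <;> norm_num)
      hξ₀o ((hR' _).2 ⟨hξ₀, rfl⟩)
    have hevery : ∀ ξ, c ξ = e := fun ξ => by
      have hsub : R' ⊆ eigs A := fun z hz => ((hR' z).1 hz).1
      have heq : R' = eigs A := Finset.eq_of_subset_of_card_le hsub (by omega)
      obtain ⟨_, h'⟩ := (hR' ξ).1 (by rw [heq]; exact ξ.2)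
      exact h'
    obtain ⟨s, hs, hse⟩ : ∃ s : F, (s = 1 ∨ s = -1) ∧ algebraMap F (AlgebraicClosure F) s = e := by
      rcases he with h | h
      · exact ⟨1, Or.inl rfl, by rw [h, map_one]⟩
      · exact ⟨-1, Or.inr rfl, by rw [h, map_neg, map_one]⟩
    have h0 : Matrix.toLin' (φ Y) = Matrix.toLin' (φ (s • 1)) := LinearMap.ext_on_range hspan fun ξ => by
      rw [Matrix.toLin'_apply, Matrix.toLin'_apply, hφ, RingHom.mapMatrix_apply, RingHom.mapMatrix_apply, hwY,
        hevery, Matrix.map_smul' _ _ _ (map_mul (algebraMap F (AlgebraicClosure F))), Matrix.map_one _ (map_zero _) (map_one _),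
        Matrix.smul_mulVec, Matrix.one_mulVec, hse]
    have h1 := Matrix.map_injective (algebraMap F (AlgebraicClosure F)).injective (Matrix.toLin'.injective h0)
    rcases hs with rfl | rfl
    · left; rw [h1, one_smul]
    · right; rw [h1, neg_smul, one_smul]
  · have hsq : ∀ ξ, c ξ ^ 2 = -1 := fun ξ => by rw [hc2 (-1) (by rw [hy2, neg_smul, one_smul]) ξ, map_neg, map_one]
    set z := c ⟨ξ₀, hξ₀⟩ with hz
    have hK2 : (2 : (AlgebraicClosure F)) ≠ 0 := by
      rw [show (2 : (AlgebraicClosure F)) = algebraMap F (AlgebraicClosure F) 2 by norm_num [map_ofNat]]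
      exact fun h => h2 ((algebraMap F (AlgebraicClosure F)).injective (h.trans (map_zero _).symm))
    have hz4 : orderOf z = 4 := by
      refine orderOf_eq_prime_pow (p := 2) (n := 1) ?_ ?_
      · rw [pow_one, hsq]
        intro h
        exact hK2 (by linear_combination -h)
      · norm_num
        rw [show (4 : ℕ) = 2 * 2 by norm_num, pow_mul, hsq]; norm_num
    have hz0 : z ≠ 0 := fun h => by
      have h' := hsq ⟨ξ₀, hξ₀⟩
      rw [← hz, h, zero_pow two_ne_zero] at h'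
      exact one_ne_zero (neg_eq_zero.1 h'.symm)
    have hpowq : ∀ j : ℕ, ∃ hj : ξ₀ ^ q ^ j ∈ eigs A, c ⟨ξ₀ ^ q ^ j, hj⟩ = z ^ q ^ j := fun j => by
      induction j with
      | zero => exact ⟨by simpa using hξ₀, by simp [hz]⟩
      | succ j ih =>
        obtain ⟨hj, hcj⟩ := ih
        have e1 : ξ₀ ^ q ^ (j + 1) = (ξ₀ ^ q ^ j) ^ q := by rw [← pow_mul, pow_succ]
        have hm : ξ₀ ^ q ^ (j + 1) ∈ eigs A := by rw [e1]; exact eigs_pow_mem hF hj
        refine ⟨hm, ?_⟩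
        rw [show (⟨_, hm⟩ : eigs A) = ⟨(ξ₀ ^ q ^ j) ^ q, eigs_pow_mem hF hj⟩ from Subtype.ext e1,
          hgal ⟨_, hj⟩, hcj, ← pow_mul, ← pow_succ]
    have hq0 : 1 ≤ q := hF ▸ Fintype.card_pos
    have hrq : ¬ r ∣ q := ((Fact.out : r.Prime).coprime_iff_not_dvd).1 hqr.symm
    have hdd := SympPrimeGraph.dvd_pow_half (r := r) hr2 hq0 hrq odd_one
    rw [mul_one, hn] at hdd
    obtain ⟨hj, hcj⟩ := hpowq n
    refine ⟨fun hk => ?_, fun hk => ?_⟩
    · have e1 : ξ₀ ^ q ^ n = ξ₀⁻¹ := eq_inv_of_mul_eq_one_left (by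
        rw [← pow_succ, ← orderOf_dvd_iff_pow_eq_one, hξ₀o]; exact hdd.1 hk)
      have h' : z ^ q ^ n = z⁻¹ := by
        rw [← hcj, show (⟨ξ₀ ^ q ^ n, hj⟩ : eigs A) = ⟨ξ₀⁻¹, eigs_inv_mem x.2 hξ₀⟩ from Subtype.ext e1,
          hinv ⟨ξ₀, hξ₀⟩]
      rw [← hz4]
      exact orderOf_dvd_of_pow_eq_one (by rw [pow_succ, h', inv_mul_cancel₀ hz0])
    · have hqn : 1 ≤ q ^ n := Nat.one_le_pow _ _ hq0
      have e1 : ξ₀ ^ q ^ n = ξ₀ := by
        conv_lhs => rw [← Nat.sub_add_cancel hqn, pow_succ]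
        rw [orderOf_dvd_iff_pow_eq_one.1 (hξ₀o.symm ▸ hdd.2 hk), one_mul]
      have h' : z ^ q ^ n = z := by
        rw [← hcj, show (⟨ξ₀ ^ q ^ n, hj⟩ : eigs A) = ⟨ξ₀, hξ₀⟩ from Subtype.ext e1]
      rw [← hz4]
      refine orderOf_dvd_of_pow_eq_one (mul_right_cancel₀ hz0 ?_)
      rw [← pow_succ, Nat.sub_add_cancel hqn, h', one_mul]

end Cfsg.Agent.Lib.PrimeGraphBC
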