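import Mathlib
import Cfsg.Agent.S2472
import Cfsg.Agent.Lib.SympPrimeGraph.Transfer
import Cfsg.Agent.Lib.PrimeGraphBC.Regular

/-!
Adjacency in the prime graph of `PSp_{2n}(q)` of an odd prime `r` prime to `q`, of the characteristic and of `2`.
-/

set_option autoImplicit false

namespace Cfsg.Agent.Lib.PrimeGraphBC

open SympPrimeGraph

variable {F : Type*} [Field F] [Fintype F] {q r n : ℕ} [Fact r.Prime]

/-- The criterion for `r` to be joined to `2`. -/
def TwoAdjacent (q r n : ℕ) : Prop :=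
  S2381.half (orderOf (q : ZMod r)) < n ∨
    (S2381.half (orderOf (q : ZMod r)) = n ∧ (2 ∣ orderOf (q : ZMod r) → 4 ∣ q ^ n + 1) ∧
      (¬ 2 ∣ orderOf (q : ZMod r) → 4 ∣ q ^ n - 1))

omit [Fintype F] [Fact r.Prime] in
/-- The order in `PSp` of a direct sum whose second component has odd order. -/
theorem mem_range_psp_pair (h2 : (2 : F) ≠ 0) {a b : ℕ} (h : a + b ≤ n) (hb : 1 ≤ b)
    (x : ↥(Matrix.symplecticGroup (Fin a) F)) (y : ↥(Matrix.symplecticGroup (Fin b) F)) (hy : Odd (orderOf y)) :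
    Nat.lcm (orderOf x) (orderOf y) ∈ Set.range (orderOf : Cfsg.PSp n F → ℕ) := by
  obtain ⟨Φ, hΦ, hneg⟩ := exists_pair_hom (F := F) h
  have hg : orderOf (Φ (x, y)) = Nat.lcm (orderOf x) (orderOf y) := by
    rw [orderOf_injective Φ hΦ, Prod.orderOf]
  refine ⟨QuotientGroup.mk (Φ (x, y)), ?_⟩
  set e := orderOf (QuotientGroup.mk (Φ (x, y)) : Cfsg.PSp n F)
  refine Nat.dvd_antisymm (hg ▸ orderOf_map_dvd (QuotientGroup.mk' _) _) ?_
  have hc : (Φ (x, y)) ^ e ∈ Subgroup.center _ := (QuotientGroup.eq_one_iff _).1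
    ((QuotientGroup.mk_pow _ _ e).trans (pow_orderOf_eq_one _))
  rcases (Classical.center_symplecticGroup n _).1 hc with h | h
  · rw [← hg]
    exact orderOf_dvd_of_pow_eq_one (Subtype.ext h)
  · exfalso
    rw [← map_pow] at h
    have h1 := hneg _ h
    rw [Prod.pow_snd] at h1
    have h3 : (-1 : Matrix (Fin b ⊕ Fin b) (Fin b ⊕ Fin b) F) ^ orderOf y = 1 := by
      rw [← h1, ← SubmonoidClass.coe_pow, ← pow_mul, mul_comm, pow_mul, pow_orderOf_eq_one, one_pow]
      rfl
    rw [hy.neg_one_pow] at h3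
    have h4 := congrFun (congrFun h3 (Sum.inl ⟨0, hb⟩)) (Sum.inl ⟨0, hb⟩)
    simp only [Matrix.neg_apply, Matrix.one_apply_eq] at h4
    exact h2 (by linear_combination -h4)

omit [Fintype F] in
/-- An element of order two in `Sp_2`. -/
theorem exists_orderOf_two (h2 : (2 : F) ≠ 0) : ∃ x : ↥(Matrix.symplecticGroup (Fin 1) F), orderOf x = 2 := by
  refine ⟨⟨-1, by rw [SymplecticGroup.mem_iff]; simp⟩, orderOf_eq_prime (Subtype.ext ?_) fun h => ?_⟩
  · show (-1 : Matrix (Fin 1 ⊕ Fin 1) (Fin 1 ⊕ Fin 1) F) ^ 2 = 1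
    exact neg_one_sq
  · have h4 := congrFun (congrFun (congrArg Subtype.val h) (Sum.inl 0)) (Sum.inl 0)
    simp only [OneMemClass.coe_one, Matrix.neg_apply, Matrix.one_apply_eq] at h4
    exact h2 (by linear_combination -h4)

theorem psp_char_iff (p : ℕ) [Fact p.Prime] [CharP F p] (hp2 : p ≠ 2) (hF : Fintype.card F = q) (hn : 1 ≤ n)
    (hr2 : r ≠ 2) (hrp : r ≠ p) :
    (r * p ∈ Set.range (orderOf : Cfsg.PSp n F → ℕ)) ↔ S2381.half (orderOf (q : ZMod r)) + 1 ≤ n := by
  have hr : r.Prime := Fact.out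
  have hp : p.Prime := Fact.out
  have hodd : Odd (r * p) := (hr.odd_of_ne_two hr2).mul (hp.odd_of_ne_two hp2)
  rw [exists_orderOf_PSp_iff fun _ _ _ => hodd]
  have hrq : ¬ r ∣ q := not_dvd_card hF hrp
  constructor
  · rintro ⟨g, hg⟩
    by_contra hle
    refine S2472.no_element p hn hr hr2 (fun h => hrp ((Nat.prime_dvd_prime_iff_eq hp hr).1
      ((CharP.cast_eq_zero_iff F p r).1 h)).symm) (k := orderOf (q : ZMod r))
      (ηk := S2381.half (orderOf (q : ZMod r))) (by rw [hF]) ?_ (by omega) g hg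
    rw [S2381.half]
    split_ifs with h
    · exact Or.inr ⟨even_iff_two_dvd.2 h, Nat.mul_div_cancel' h⟩
    · exact Or.inl ⟨Nat.not_even_iff_odd.1 fun h' => h h'.two_dvd, rfl⟩
  · intro hle
    obtain ⟨x, hx⟩ := exists_orderOf_prime (F := F) hF hr2 hrq
    obtain ⟨t, ht⟩ := exists_orderOf_char (F := F) p
    obtain ⟨g, hg⟩ := exists_orderOf_sum hle x t
    exact ⟨g, by rw [hg, hx, ht, Nat.Coprime.lcm_eq_mul ((Nat.coprime_primes hr hp).2 hrp)]⟩

theorem psp_two_iff (hF : Fintype.card F = q) (h2 : (2 : F) ≠ 0) (hr2 : r ≠ 2) (hrF : (r : F) ≠ 0)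
    (hqr : q.Coprime r) :
    (2 * r ∈ Set.range (orderOf : Cfsg.PSp n F → ℕ)) ↔ TwoAdjacent q r n := by
  have hr : r.Prime := Fact.out
  have hrodd : Odd r := hr.odd_of_ne_two hr2
  have hc2 : (2 : ℕ).Coprime r := Nat.coprime_two_left.2 hrodd
  have hq : 1 ≤ q := hF ▸ Fintype.card_pos
  have hrq : ¬ r ∣ q := (hr.coprime_iff_not_dvd).1 hqr.symm
  set η := S2381.half (orderOf (q : ZMod r)) with hη
  constructor
  · rintro ⟨z, hz⟩
    obtain ⟨g, rfl⟩ := QuotientGroup.mk_surjective z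
    have hpm : ∀ w : ↥(Matrix.symplecticGroup (Fin n) F), w ∈ Subgroup.center _ → w ^ 2 = 1 := fun w hw =>
      Subtype.ext (by
        rw [SubmonoidClass.coe_pow]
        rcases (Classical.center_symplecticGroup n w).1 hw with h | h <;> simp [h])
    have hcen : g ^ (2 * r) ∈ Subgroup.center _ := (QuotientGroup.eq_one_iff _).1 (by
      rw [QuotientGroup.mk_pow, ← hz, pow_orderOf_eq_one])
    have hne : ∀ j, ¬ 2 * r ∣ j → g ^ j ∉ Subgroup.center _ := fun j hj hmem => hj (hz ▸ orderOf_dvd_of_pow_eq_one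
      (by rw [← QuotientGroup.mk_pow]; exact (QuotientGroup.eq_one_iff _).2 hmem))
    have hx : orderOf (g ^ 4) = r := orderOf_eq_prime
      (by rw [← pow_mul, show 4 * r = 2 * r * 2 by ring, pow_mul, hpm _ hcen])
      fun h => hne 4 (fun hd => by
        have := Nat.le_of_dvd (by norm_num) ((dvd_mul_left r 2).trans hd)
        have := hr.two_le
        obtain ⟨c, hc⟩ := hrodd
        have h3 : r ∣ 4 := (dvd_mul_left r 2).trans hd
        rw [show r = 3 by omega] at h3
        norm_num at h3) (h ▸ Subgroup.one_mem _)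
    obtain ⟨ξ, -, -, hlb, hub⟩ := eigs_facts hF hr2 hrF hqr hx
    rcases (show η ≤ n by omega).lt_or_eq with hlt | heq
    · exact Or.inl hlt
    · refine Or.inr ⟨heq, ?_⟩
      obtain ⟨h1, h1'⟩ := sq_centralizer hF h2 hr2 hrF hqr heq hx ((Commute.refl g).pow_pow 4 r)
      have hy : ¬ 2 * r ∣ r := fun hd => by have := Nat.le_of_dvd hr.pos hd; have := hr.pos; omega
      have hyc := hne r hy
      rw [Classical.center_symplecticGroup] at hyc
      have hy2 : g ^ r ^ 1 * g ^ r = g ^ (2 * r) := by rw [pow_one, ← pow_add, two_mul]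
      rw [pow_one] at hy2
      rcases (Classical.center_symplecticGroup n _).1 hcen with h | h
      · refine absurd (h1 ?_) hyc
        rw [_root_.sq, ← Submonoid.coe_mul, hy2, h]
      · refine h1' ?_
        rw [_root_.sq, ← Submonoid.coe_mul, hy2, h]
  · rintro (hlt | ⟨heq, hd1, hd2⟩)
    · obtain ⟨x, hx⟩ := exists_orderOf_two (F := F) h2
      obtain ⟨y, hy⟩ := exists_orderOf_prime (F := F) hF hr2 hrq
      have h := mem_range_psp_pair (n := n) h2 (a := 1) (by omega)
        (S2381.half_pos (CrossChar.orderOf_pos_dvd hrq).1) x y (by rw [hy]; exact hrodd)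
      rwa [hx, hy, hc2.lcm_eq_mul] at h
    · have hdd := dvd_pow_half (r := r) hr2 hq hrq odd_one
      rw [mul_one, heq] at hdd
      have hc4 : (4 : ℕ).Coprime r := by
        rw [show (4 : ℕ) = 2 ^ 2 by norm_num]; exact hc2.pow_left 2
      obtain ⟨g, hg⟩ := exists_orderOf_of_dvd (F := F) hF (m := n) (N := 4 * r)
        (by rw [← heq]; exact S2381.half_pos (CrossChar.orderOf_pos_dvd hrq).1)
        (if h : 2 ∣ orderOf (q : ZMod r) then Or.inr (hc4.mul_dvd_of_dvd_of_dvd (hd1 h) (hdd.1 h))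
          else Or.inl (hc4.mul_dvd_of_dvd_of_dvd (hd2 h) (hdd.2 h)))
      have hd : 4 * r ∣ 2 * orderOf (QuotientGroup.mk g : Cfsg.PSp n F) := by
        rw [← hg]
        refine orderOf_dvd_of_pow_eq_one ?_
        rw [mul_comm, pow_mul]
        apply Subtype.ext
        rw [SubmonoidClass.coe_pow]
        rcases (Classical.center_symplecticGroup n _).1 ((QuotientGroup.eq_one_iff _).1
          ((QuotientGroup.mk_pow _ g _).trans (pow_orderOf_eq_one (QuotientGroup.mk g : Cfsg.PSp n F)))) with h | h <;>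
            rw [h] <;> simp
      rw [show 4 * r = 2 * (2 * r) by ring] at hd
      exact ElementOrders.exists_orderOf_eq_of_dvd (Nat.dvd_of_mul_dvd_mul_left two_pos hd)

end Cfsg.Agent.Lib.PrimeGraphBC
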