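import Mathlib
import Cfsg.Agent.Lib.Orth.Centre
import Cfsg.Agent.Lib.PrimeGraphBC.Symp
import Cfsg.Agent.Lib.PrimeGraphBC.Count
import Cfsg.Agent.Lib.PrimeGraphBC.SympSide

/-!
Adjacency in the prime graph of `Ω_{2n+1}(q)` of an odd prime `r` prime to `q`, of the characteristic and of `2`.
-/

set_option autoImplicit false

namespace Cfsg.Agent.Lib.PrimeGraphBC

open Module QuadraticMap SympPrimeGraph

variable {ι : Type} [Fintype ι] [DecidableEq ι] {F : Type*} [Field F] {Q : QuadraticForm F (ι → F)}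

theorem mem_omega_of_odd [Finite F] (h2 : (2 : F) ≠ 0) (hQ : (QuadraticMap.polarBilin Q).Nondegenerate)
    (hn : 2 ≤ Fintype.card ι) {g : ↥(isometryGroup F ⇑Q)} (hg : Odd (orderOf g)) : g ∈ Omega F ⇑Q := by
  rw [Orth.mem_omega_iff h2 hQ hn]
  have key : ∀ χ : ↥(isometryGroup F ⇑Q) →* ℤˣ, χ g = 1 := fun χ => by
    have h := map_pow χ g (orderOf g)
    rw [pow_orderOf_eq_one, map_one, Int.units_pow_eq_pow_mod_two, Nat.odd_iff.1 hg, pow_one] at h
    exact h.symm
  exact ⟨key _, key _⟩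

/-- An involution negating an orthogonal family commutes with what fixes the family. -/
theorem commute_negate [Finite F] (h2 : (2 : F) ≠ 0) {k : ℕ} {v : Fin k → ι → F}
    (hv : ∀ i j, i ≠ j → polar ⇑Q (v i) (v j) = 0) (hv' : ∀ i, Q (v i) ≠ 0) {g h : ↥(isometryGroup F ⇑Q)}
    (hgv : ∀ i, Orth.app g (v i) = -v i) (hfix : ∀ x, (∀ i, polar ⇑Q (v i) x = 0) → Orth.app g x = x)
    (hh : ∀ i, Orth.app h (v i) = v i) : Commute g h := by
  refine endHom_injective (LinearMap.ext fun x => ?_)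
  rw [map_mul, map_mul, Module.End.mul_apply, Module.End.mul_apply]
  set P := Orth.perpProj Q v x with hP
  have e : x = P + ∑ i, (polar ⇑Q (v i) x / (2 * Q (v i))) • v i := by
    rw [hP, Orth.perpProj, sub_add_cancel]
  have hp : ∀ i, polar ⇑Q (v i) P = 0 := Orth.polar_perpProj h2 hv hv' x
  have hgP : endHom Q g P = P := hfix _ hp
  have hgP' : endHom Q g (endHom Q h P) = endHom Q h P := hfix _ fun i => by
    show polar ⇑Q (v i) (Orth.app h P) = 0
    conv_lhs => rw [← hh i]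
    rw [Orth.polar_app, hp]
  have hg : ∀ i, endHom Q g (v i) = -v i := hgv
  have hh' : ∀ i, endHom Q h (v i) = v i := hh
  rw [e]
  simp only [map_add, map_sum, map_smul, map_neg, hgP, hgP', hg, hh', smul_neg, Finset.sum_neg_distrib]

variable [Fintype F] {q n : ℕ} (h2 : (2 : F) ≠ 0) (hQ : (QuadraticMap.polarBilin Q).Nondegenerate)
  (hcard : Fintype.card ι = 2 * n + 1)
include h2 hQ hcard

/-- An element of order `r` with a fixed space of dimension at least three, if `η < n`. -/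
theorem exists_small (hF : Fintype.card F = q) {r : ℕ} [Fact r.Prime] (hr2 : r ≠ 2) (hrF : (r : F) ≠ 0)
    (hrq : ¬ r ∣ q) (hle : S2381.half (orderOf (q : ZMod r)) + 1 ≤ n) {c d : F} (hc : c ≠ 0) (hd : d ≠ 0) :
    ∃ (h : ↥(isometryGroup F ⇑Q)) (a b x : ι → F), orderOf h = r ∧ Q a = c ∧ Q b = d ∧ Q x ≠ 0 ∧
      polar ⇑Q a b = 0 ∧ polar ⇑Q a x = 0 ∧ polar ⇑Q b x = 0 ∧
      Orth.app h a = a ∧ Orth.app h b = b ∧ Orth.app h x = x := by
  set η := S2381.half (orderOf (q : ZMod r))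
  obtain ⟨x, hx⟩ := exists_orderOf_prime (F := F) hF hr2 hrq
  obtain ⟨h, hh, hmv⟩ := exists_orth_of_sp h2 hQ (m := η) (show η + η < _ by omega) x
    (by rw [hx]; exact (Fact.out : r.Prime).odd_of_ne_two hr2) (by rw [hx]; exact hrF)
  rw [hx] at hh
  have hS : endHom Q h ^ r = 1 := by rw [← map_pow, ← hh, pow_orderOf_eq_one, map_one]
  have hd3 : 3 ≤ finrank F (fixedSpace (endHom Q h)) := by
    have h1 := Submodule.finrank_add_eq_of_isCompl (isCompl_fixed_moved hrF hS)
    rw [Module.finrank_fintype_fun_eq_card] at h1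
    omega
  obtain ⟨a, b, w, ha, hb, hw, h1, h1', h1'', o1, o2, o3⟩ :=
    exists_triple h2 (fixedSpace (endHom Q h)) (nondegenerate_fixed hQ (endHom_isometry h) hrF hS) hd3 hc hd
  exact ⟨h, a, b, w, hh, h1, h1', h1'', o1, o2, o3, mem_fixedSpace.1 ha, mem_fixedSpace.1 hb, mem_fixedSpace.1 hw⟩

theorem omega_char_iff (p : ℕ) [Fact p.Prime] [CharP F p] (hp2 : p ≠ 2) (hF : Fintype.card F = q) (hn : 1 ≤ n)
    {r : ℕ} [Fact r.Prime] (hr2 : r ≠ 2) (hrp : r ≠ p) :
    (∃ g : ↥(isometryGroup F ⇑Q), g ∈ Omega F ⇑Q ∧ orderOf g = r * p) ↔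
      S2381.half (orderOf (q : ZMod r)) + 1 ≤ n := by
  have hr : r.Prime := Fact.out
  have hp : p.Prime := Fact.out
  have hrodd : Odd r := hr.odd_of_ne_two hr2
  have hpodd : Odd p := hp.odd_of_ne_two hp2
  have hrF : (r : F) ≠ 0 := fun h => hrp ((Nat.prime_dvd_prime_iff_eq hp hr).1
    ((CharP.cast_eq_zero_iff F p r).1 h)).symm
  have hrq : ¬ r ∣ q := not_dvd_card hF hrp
  have hco : r.Coprime p := (Nat.coprime_primes hr hp).2 hrp
  constructor
  · rintro ⟨g, -, hg⟩
    by_contra hle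
    have ho : orderOf (g ^ p) = r := by
      rw [orderOf_pow' g hp.ne_zero, hg, Nat.gcd_eq_right (dvd_mul_left p r), Nat.mul_div_cancel _ hp.pos]
    have hup : (g ^ r) ^ p = 1 := by rw [← pow_mul, ← hg, pow_orderOf_eq_one]
    have hune : g ^ r ≠ 1 := fun h => by
      have := Nat.le_of_dvd hr.pos (hg ▸ orderOf_dvd_of_pow_eq_one h)
      have := Nat.mul_le_mul_left r hp.two_le
      have := hr.pos
      omega
    have hS : endHom Q (g ^ p) ^ r = 1 := by rw [← map_pow, ← ho, pow_orderOf_eq_one, map_one]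
    obtain ⟨b, π, hdim, hπo, hscal⟩ := exists_symp_hom h2 hQ (g ^ p) hrodd hrF (by rw [← ho, pow_orderOf_eq_one])
    rw [ho] at hπo
    obtain ⟨ξ, -, -, hlb, hub⟩ := eigs_facts hF hr2 hrF ((hr.coprime_iff_not_dvd.2 hrq).symm) hπo
    have hcu : g ^ r ∈ Subgroup.centralizer ({g ^ p} : Set ↥(isometryGroup F ⇑Q)) :=
      Subgroup.mem_centralizer_singleton_iff.2 ((Commute.refl g).pow_pow r p).eq
    set u : ↥(Subgroup.centralizer ({g ^ p} : Set ↥(isometryGroup F ⇑Q))) := ⟨g ^ r, hcu⟩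
    have hπu : (π u : Matrix (Fin b ⊕ Fin b) (Fin b ⊕ Fin b) F) = 1 := by
      refine eq_one_of_commute (p := p) (by simp; omega)
        ((show Commute ⟨g ^ p, _⟩ u from Subtype.ext ((Commute.refl g).pow_pow p r).eq).map π
          |>.map (Matrix.symplecticGroup (Fin b) F).subtype) ?_
      show (π u : Matrix (Fin b ⊕ Fin b) (Fin b ⊕ Fin b) F) ^ p = 1
      rw [← SubmonoidClass.coe_pow, ← map_pow, show u ^ p = 1 from Subtype.ext hup, map_one]
      rfl
    have hmv := hscal u 1 (by rw [one_smul]; exact hπu)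
    have hd1 : finrank F (fixedSpace (endHom Q (g ^ p))) = 1 := by omega
    obtain ⟨⟨z, hz⟩, hz0, hspan⟩ := finrank_eq_one_iff'.1 hd1
    have hcS : Commute (endHom Q (g ^ r)) (endHom Q (g ^ p)) := ((Commute.refl g).pow_pow r p).map _
    obtain ⟨c, hc⟩ := hspan ⟨_, apply_mem_fixedSpace hcS hz⟩
    have hcz : endHom Q (g ^ r) z = c • z := (congrArg Subtype.val hc).symm
    have hzne : z ≠ 0 := fun h => hz0 (Subtype.ext h)
    have hpow : ∀ j : ℕ, (endHom Q (g ^ r) ^ j) z = c ^ j • z := fun j => by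
      induction j with
      | zero => simp
      | succ j ih => rw [pow_succ', Module.End.mul_apply, ih, map_smul, hcz, smul_smul, pow_succ]
    have hc1 : c = 1 := by
      have h1 := hpow p
      rw [← map_pow, hup, map_one, Module.End.one_apply] at h1
      have h3 : c ^ p = 1 := smul_left_injective F hzne (h1.symm.trans (one_smul F z).symm)
      have h4 : (c - 1) ^ p = 0 := by rw [sub_pow_char, one_pow, h3, sub_self]
      exact sub_eq_zero.1 (pow_eq_zero_iff hp.ne_zero |>.1 h4)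
    refine hune (endHom_injective (LinearMap.ext fun v => ?_))
    rw [map_one, Module.End.one_apply]
    obtain ⟨a, ha, w, hw, rfl⟩ := exists_decomp hrF hS v
    obtain ⟨t, ht⟩ := hspan ⟨a, ha⟩
    have ha' : a = t • z := (congrArg Subtype.val ht).symm
    rw [map_add, ha', map_smul, hcz, hc1, one_smul, endHom_apply, hmv w hw, one_smul]
  · intro hle
    obtain ⟨h, a, b, x, hh, ha, hb, hx, hab, hax, hbx, ha', hb', hx'⟩ :=
      exists_small h2 hQ hcard hF hr2 hrF hrq hle one_ne_zero (neg_ne_zero.2 (one_ne_zero (α := F)))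
    have hQz : Q (a + b) = 0 := by rw [QuadraticMap.map_add (⇑Q), hab, ha, hb]; ring
    have hz0 : a + b ≠ 0 := fun h0 => by
      have h1 := congrArg (fun w => polar ⇑Q a w) h0
      simp only [polar_add_right, hab, Orth.polar_self_eq, ha, mul_one, add_zero, polar_zero_right] at h1
      exact h2 h1
    have hzx : polar ⇑Q x (a + b) = 0 := by
      rw [polar_add_right, polar_comm, hax, polar_comm, hbx, add_zero]
    obtain ⟨u, hu, hcomm⟩ := exists_eichler (p := p) h2 hz0 hQz hzx hx hQ hp2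
    have hc : Commute u h := hcomm h (by rw [Orth.app_add, ha', hb']) hx'
    refine ⟨u * h, Subgroup.mul_mem _ (mem_omega_of_odd h2 hQ (by omega) (hu ▸ hpodd))
      (mem_omega_of_odd h2 hQ (by omega) (hh ▸ hrodd)), ?_⟩
    rw [hc.orderOf_mul_eq_mul_orderOf_of_coprime (by rw [hu, hh]; exact hco.symm), hu, hh, mul_comm]

theorem omega_two_char (p : ℕ) [Fact p.Prime] [CharP F p] (hp2 : p ≠ 2) (hn : 3 ≤ n) :
    ∃ g : ↥(isometryGroup F ⇑Q), g ∈ Omega F ⇑Q ∧ orderOf g = 2 * p := by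
  have hp : p.Prime := Fact.out
  have hpodd : Odd p := hp.odd_of_ne_two hp2
  obtain ⟨v, hv, hvc⟩ := exists_family h2 hQ (![1, 1, 1, -1, 1] : Fin 5 → F)
    (fun i => by fin_cases i <;> simp) (by omega)
  let w : Fin 2 → ι → F := ![v 0, v 1]
  have hw : ∀ i j, i ≠ j → polar ⇑Q (w i) (w j) = 0 := fun i j hij => by
    fin_cases i <;> fin_cases j <;> first | exact absurd rfl hij | exact hv _ _ (by decide)
  have hwc : ∀ i, Q (w i) = 1 := fun i => by fin_cases i <;> simp [w, hvc]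
  have hw' : ∀ i, Q (w i) ≠ 0 := fun i => by rw [hwc]; exact one_ne_zero
  obtain ⟨y, hyv, hyfix, hyy, hχ⟩ := Orth.exists_negate h2 hQ hw hw'
  have hy : y ∈ Omega F ⇑Q := Orth.negate_mem_omega h2 hQ (by omega) even_two hw' hwc hχ
  have h23 : polar ⇑Q (v 2) (v 3) = 0 := hv _ _ (by decide)
  have hQz : Q (v 2 + v 3) = 0 := by rw [QuadraticMap.map_add (⇑Q), h23, hvc, hvc]; simp
  have hz0 : v 2 + v 3 ≠ 0 := fun h0 => by
    have h1 := congrArg (fun w => polar ⇑Q (v 2) w) h0
    simp only [polar_add_right, h23, Orth.polar_self_eq, hvc, add_zero, polar_zero_right] at h1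
    exact h2 (by simpa using h1)
  have hzx : polar ⇑Q (v 4) (v 2 + v 3) = 0 := by
    rw [polar_add_right, hv _ _ (by decide), hv _ _ (by decide), add_zero]
  have hx : Q (v 4) ≠ 0 := by rw [hvc]; simp
  obtain ⟨u, hu, hcomm⟩ := exists_eichler (p := p) h2 hz0 hQz hzx hx hQ hp2
  have hfz : Orth.app y (v 2 + v 3) = v 2 + v 3 := hyfix _ fun i => by
    fin_cases i <;> simp [w, polar_add_right, hv]
  have hfx : Orth.app y (v 4) = v 4 := hyfix _ fun i => by fin_cases i <;> simp [w, hv]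
  have hc : Commute u y := hcomm y hfz hfx
  have hyne : y ≠ 1 := fun h => by
    have h1 := hyv 0
    rw [h, Orth.app_one] at h1
    have h3 : (2 : F) • w 0 = 0 := by rw [two_smul]; exact eq_neg_iff_add_eq_zero.1 h1
    exact hw' 0 (by rw [(smul_eq_zero.1 h3).resolve_left h2, QuadraticMap.map_zero])
  have hyo : orderOf y = 2 := orderOf_eq_prime (by rw [_root_.sq, hyy]) hyne
  refine ⟨u * y, Subgroup.mul_mem _ (mem_omega_of_odd h2 hQ (by omega) (hu ▸ hpodd)) hy, ?_⟩
  rw [hc.orderOf_mul_eq_mul_orderOf_of_coprime (by rw [hu, hyo]; exact hpodd.coprime_two_right), hu, hyo, mul_comm]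

end Cfsg.Agent.Lib.PrimeGraphBC
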