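import Mathlib
import Cfsg.Agent.Lib.PrimeGraphBC.OrthSide

/-!
Adjacency of `2` and an odd prime prime to `q` in the prime graph of `Ω_{2n+1}(q)`.
-/

set_option autoImplicit false

namespace Cfsg.Agent.Lib.PrimeGraphBC

open Module QuadraticMap SympPrimeGraph

variable {F : Type*} [Field F] [Fintype F] {q n : ℕ}

theorem detSign_negOne (h2 : (2 : F) ≠ 0) {ι : Type} [Fintype ι] [DecidableEq ι] {Q : QuadraticForm F (ι → F)}
    (hQ : (QuadraticMap.polarBilin Q).Nondegenerate) (hodd : Odd (Fintype.card ι)) :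
    Orth.detSign Q h2 hQ (Orth.negOne Q) = -1 := by
  classical
  have hm : ((Orth.negOne Q : Matrix.GeneralLinearGroup ι F) : Matrix ι ι F) = -1 :=
    Orth.mat_eq fun v => by rw [Orth.app_negOne, Matrix.neg_mulVec, Matrix.one_mulVec]
  have hne : ((Orth.negOne Q : Matrix.GeneralLinearGroup ι F) : Matrix ι ι F).det ≠ 1 := fun h => by
    rw [hm, Matrix.det_neg, Matrix.det_one, mul_one, hodd.neg_one_pow] at h
    exact h2 (by linear_combination -h)
  show (if _ then (1 : ℤˣ) else -1) = -1
  rw [if_neg hne]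

theorem omega_two_iff (hF : Fintype.card F = q) (hqodd : Odd q) (h2 : (2 : F) ≠ 0) (hn : 3 ≤ n) {r : ℕ} [Fact r.Prime]
    (hr2 : r ≠ 2) (hrF : (r : F) ≠ 0) (hrq : ¬ r ∣ q) :
    (∃ g : ↥(isometryGroup F ⇑(Orth.oddForm n F)), g ∈ Omega F ⇑(Orth.oddForm n F) ∧ orderOf g = 2 * r) ↔
      TwoAdjacent q r n := by
  classical
  have hr : r.Prime := Fact.out
  have hrodd : Odd r := hr.odd_of_ne_two hr2
  have hqr : q.Coprime r := (hr.coprime_iff_not_dvd.2 hrq).symm
  have hcard : Fintype.card (Unit ⊕ (Fin n ⊕ Fin n)) = 2 * n + 1 := by simp; omega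
  set Q := Orth.oddForm n F with hQdef
  have hQ : (QuadraticMap.polarBilin Q).Nondegenerate := Orth.oddForm_nondegenerate h2 n
  have hdd := dvd_pow_half (r := r) hr2 (hF ▸ Fintype.card_pos) hrq odd_one
  have hspin : S2381.half (orderOf (q : ZMod r)) = n → ∀ h y : ↥(isometryGroup F ⇑Q), orderOf h = r →
      y * y = 1 → (∀ v, Orth.app y v = v ↔ Orth.app h v = v) → finrank F (fixedSpace (endHom Q h)) = 1 →
      (Orth.spinor Q y = 1 ↔
        (2 ∣ orderOf (q : ZMod r) → 4 ∣ q ^ n + 1) ∧ (¬ 2 ∣ orderOf (q : ZMod r) → 4 ∣ q ^ n - 1)) := by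
    intro hη h y hh hyy hfix hd1
    obtain ⟨e1, e2⟩ := spinor_involution hF hqodd h2 (by omega) hr2 h y hh hyy hfix hd1
    rw [mul_one, hη] at hdd
    by_cases hk : 2 ∣ orderOf (q : ZMod r)
    · rw [e1 (hdd.1 hk)]
      exact ⟨fun h4 => ⟨fun _ => h4, fun h' => absurd hk h'⟩, fun h' => h'.1 hk⟩
    · rw [e2 (hdd.2 hk)]
      exact ⟨fun h4 => ⟨fun h' => absurd h' hk, fun _ => h4⟩, fun h' => h'.2 hk⟩
  constructor
  · rintro ⟨g, hgO, hg⟩
    have hr0 : 0 < r := hr.pos
    have hh : orderOf (g ^ 2) = r := by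
      rw [orderOf_pow' g two_ne_zero, hg, Nat.gcd_eq_right (dvd_mul_right 2 r), Nat.mul_div_cancel_left _ two_pos]
    have hyy : g ^ r * g ^ r = 1 := by rw [← pow_add, ← two_mul, ← hg, pow_orderOf_eq_one]
    have hyne : g ^ r ≠ 1 := fun h => by
      have := Nat.le_of_dvd hr0 (hg ▸ orderOf_dvd_of_pow_eq_one h)
      omega
    have hS : endHom Q (g ^ 2) ^ r = 1 := by rw [← map_pow, ← hh, pow_orderOf_eq_one, map_one]
    obtain ⟨b, π, hdim, hπo, hscal⟩ := exists_symp_hom h2 hQ (g ^ 2) hrodd hrF (by rw [← hh, pow_orderOf_eq_one])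
    rw [hh] at hπo
    obtain ⟨ξ, -, -, hlb, hub⟩ := eigs_facts hF hr2 hrF hqr hπo
    rcases (show S2381.half (orderOf (q : ZMod r)) ≤ n by omega).lt_or_eq with hlt | heq
    · exact Or.inl hlt
    refine Or.inr ⟨heq, ?_⟩
    have hd1 : finrank F (fixedSpace (endHom Q (g ^ 2))) = 1 := by omega
    have hbn : S2381.half (orderOf (q : ZMod r)) = b := by omega
    set y : ↥(Subgroup.centralizer ({g ^ 2} : Set ↥(isometryGroup F ⇑Q))) :=
      ⟨g ^ r, Subgroup.mem_centralizer_singleton_iff.2 ((Commute.refl g).pow_pow r 2).eq⟩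
    have hcomm : Commute (π ⟨g ^ 2, Subgroup.mem_centralizer_singleton_iff.2 rfl⟩) (π y) :=
      (show Commute ⟨g ^ 2, _⟩ y from Subtype.ext ((Commute.refl g).pow_pow 2 r).eq).map π
    have hy2 : (π y : Matrix (Fin b ⊕ Fin b) (Fin b ⊕ Fin b) F) ^ 2 = 1 := by
      rw [← SubmonoidClass.coe_pow, ← map_pow, show y ^ 2 = 1 from Subtype.ext ((_root_.sq _).trans hyy), map_one]
      rfl
    obtain ⟨c, hc1, hc⟩ : ∃ c : F, (c = 1 ∨ c = -1) ∧ ∀ w ∈ movedSpace (endHom Q (g ^ 2)), Orth.app (g ^ r) w = c • w := by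
      rcases (sq_centralizer hF h2 hr2 hrF hqr hbn hπo hcomm).1 hy2 with h | h
      · exact ⟨1, Or.inl rfl, hscal y 1 (by rw [one_smul]; exact h)⟩
      · exact ⟨-1, Or.inr rfl, hscal y (-1) (by rw [neg_smul, one_smul]; exact h)⟩
    obtain ⟨⟨z, hz⟩, hz0, hspan⟩ := finrank_eq_one_iff'.1 hd1
    have hzne : z ≠ 0 := fun h => hz0 (Subtype.ext h)
    obtain ⟨d, hd⟩ := hspan ⟨_, apply_mem_fixedSpace (((Commute.refl g).pow_pow r 2).map (endHom Q)) hz⟩
    have hdz : Orth.app (g ^ r) z = d • z := (congrArg Subtype.val hd).symm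
    have hdec : ∀ v, ∃ (t : F) (w : Unit ⊕ (Fin n ⊕ Fin n) → F), w ∈ movedSpace (endHom Q (g ^ 2)) ∧ v = t • z + w :=
      fun v => by
        obtain ⟨a, ha, w, hw, rfl⟩ := exists_decomp hrF hS v
        obtain ⟨t, ht⟩ := hspan ⟨a, ha⟩
        exact ⟨t, w, hw, by rw [← show t • z = a from congrArg Subtype.val ht]⟩
    have hd1' : d = 1 ∨ d = -1 := by
      have h' := congrArg (Orth.app (g ^ r)) hdz
      rw [← Orth.app_mul, hyy, Orth.app_one, Orth.app_smul, hdz, smul_smul] at h'
      exact mul_self_eq_one_iff.1 (smul_left_injective F hzne (h'.symm.trans (one_smul F z).symm))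
    have happ : ∀ (t : F) w, w ∈ movedSpace (endHom Q (g ^ 2)) → Orth.app (g ^ r) (t • z + w) = (t * d) • z + c • w :=
      fun t w hw => by rw [Orth.app_add, Orth.app_smul, hdz, smul_smul, hc w hw]
    have hdet := ((Orth.mem_omega_iff h2 hQ (by omega) (g ^ r)).1 (Subgroup.pow_mem _ hgO r))
    have hQz : Q z ≠ 0 := fun h0 => hz0 ((nondegenerate_fixed hQ (endHom_isometry (g ^ 2)) hrF hS).1 _ fun w => by
      obtain ⟨t, ht⟩ := hspan w
      rw [← ht]
      show polar ⇑Q z (t • z) = 0
      rw [polar_smul_right, polar_self, h0, smul_zero, smul_zero])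
    have hperp : ∀ w ∈ movedSpace (endHom Q (g ^ 2)), polar ⇑Q z w = 0 := fun w hw =>
      orth_right (endHom_isometry (g ^ 2)) hw hz
    rcases hc1 with rfl | rfl
    · exfalso
      rcases hd1' with rfl | rfl
      · refine hyne (Orth.isometry_ext fun v => ?_)
        obtain ⟨t, w, hw, rfl⟩ := hdec v
        rw [happ t w hw, Orth.app_one, mul_one, one_smul]
      · have hy : g ^ r = Orth.refl Q z hQz := Orth.isometry_ext fun v => by
          obtain ⟨t, w, hw, rfl⟩ := hdec v
          rw [happ t w hw, Orth.app_add, Orth.app_smul, Orth.app_refl_self,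
            Orth.app_refl_of_polar_eq_zero _ (hperp w hw)]
          module
        have h' := hdet.1
        rw [hy, Orth.detSign_refl h2 hQ hQz] at h'
        exact absurd h' (by decide)
    rcases hd1' with rfl | rfl
    swap
    · exfalso
      have hy : g ^ r = Orth.negOne Q := Orth.isometry_ext fun v => by
        obtain ⟨t, w, hw, rfl⟩ := hdec v
        rw [happ t w hw, Orth.app_negOne]
        module
      have h' := hdet.1
      rw [hy, detSign_negOne h2 hQ (by rw [hcard]; exact odd_two_mul_add_one n)] at h'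
      exact absurd h' (by decide)
    refine (hspin heq _ _ hh hyy (fun v => ?_) hd1).1 hdet.2
    obtain ⟨t, w, hw, rfl⟩ := hdec v
    have hgz : Orth.app (g ^ 2) z = z := mem_fixedSpace.1 hz
    constructor
    · intro h
      rw [happ t w hw, mul_one, add_right_inj] at h
      have h3 : (2 : F) • w = 0 := by
        rw [two_smul]
        nth_rewrite 1 [← h]
        rw [neg_smul, one_smul, neg_add_cancel]
      rw [(smul_eq_zero.1 h3).resolve_left h2, add_zero, Orth.app_smul, hgz]
    · intro h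
      rw [Orth.app_add, Orth.app_smul, hgz, add_right_inj] at h
      rw [happ t w hw, mul_one,
        Submodule.disjoint_def.1 (disjoint_fixed_moved hrF hS) w (mem_fixedSpace.2 h) hw, smul_zero]
  · rintro (hlt | ⟨heq, hcond⟩)
    · obtain ⟨h, a, b, x, hh, ha, hb, -, hab, -, -, ha', hb', -⟩ :=
        exists_small h2 hQ hcard hF hr2 hrF hrq hlt one_ne_zero (one_ne_zero (α := F))
      let w : Fin 2 → (Unit ⊕ (Fin n ⊕ Fin n) → F) := ![a, b]
      have hw : ∀ i j, i ≠ j → polar ⇑Q (w i) (w j) = 0 := fun i j hij => by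
        fin_cases i <;> fin_cases j <;>
          first | exact absurd rfl hij | exact hab | exact (polar_comm (⇑Q) b a).trans hab
      have hwc : ∀ i, Q (w i) = 1 := fun i => by fin_cases i <;> simp [w, ha, hb]
      have hw' : ∀ i, Q (w i) ≠ 0 := fun i => by rw [hwc]; exact one_ne_zero
      obtain ⟨y, hyv, hyfix, hyy, hχ⟩ := Orth.exists_negate h2 hQ hw hw'
      have hy : y ∈ Omega F ⇑Q := Orth.negate_mem_omega h2 hQ (by omega) even_two hw' hwc hχ
      have hc : Commute y h := commute_negate h2 hw hw' hyv hyfix fun i => by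
        fin_cases i <;> simp [w, ha', hb']
      have hyne : y ≠ 1 := fun h => by
        have h1 := hyv 0
        rw [h, Orth.app_one] at h1
        have h3 : (2 : F) • w 0 = 0 := by rw [two_smul]; exact eq_neg_iff_add_eq_zero.1 h1
        exact hw' 0 (by rw [(smul_eq_zero.1 h3).resolve_left h2, QuadraticMap.map_zero])
      have hyo : orderOf y = 2 := orderOf_eq_prime (by rw [_root_.sq, hyy]) hyne
      refine ⟨y * h, Subgroup.mul_mem _ hy (mem_omega_of_odd h2 hQ (by omega) (hh ▸ hrodd)), ?_⟩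
      rw [hc.orderOf_mul_eq_mul_orderOf_of_coprime (by rw [hyo, hh]; exact hrodd.coprime_two_left), hyo, hh]
    · obtain ⟨x, hx⟩ := exists_orderOf_prime (F := F) hF hr2 hrq
      obtain ⟨h, hh, hmv⟩ := exists_orth_of_sp h2 hQ (show _ + _ < _ by omega) x
        (by rw [hx]; exact hrodd) (by rw [hx]; exact hrF)
      rw [hx] at hh
      have hS : endHom Q h ^ r = 1 := by rw [← map_pow, ← hh, pow_orderOf_eq_one, map_one]
      obtain ⟨b, π, hdim, hπo, -⟩ := exists_symp_hom h2 hQ h hrodd hrF (by rw [← hh, pow_orderOf_eq_one])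
      rw [hh] at hπo
      obtain ⟨ξ, -, -, hlb, hub⟩ := eigs_facts hF hr2 hrF hqr hπo
      have hd1 : finrank F (fixedSpace (endHom Q h)) = 1 := by omega
      obtain ⟨⟨z, hz⟩, hz0, hspan⟩ := finrank_eq_one_iff'.1 hd1
      have hzne : z ≠ 0 := fun h => hz0 (Subtype.ext h)
      have hQz : Q z ≠ 0 := fun h0 => hz0 ((nondegenerate_fixed hQ (endHom_isometry h) hrF hS).1 _ fun w => by
        obtain ⟨t, ht⟩ := hspan w
        rw [← ht]
        show polar ⇑Q z (t • z) = 0
        rw [polar_smul_right, polar_self, h0, smul_zero, smul_zero])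
      have hhz : Orth.app h z = z := mem_fixedSpace.1 hz
      set ρ := Orth.refl Q z hQz
      have hneg : ∀ g : ↥(isometryGroup F ⇑Q), Commute (Orth.negOne Q) g := fun g =>
        Orth.isometry_ext fun v => by rw [Orth.app_mul, Orth.app_mul, Orth.app_negOne, Orth.app_negOne, Orth.app_neg]
      set y := Orth.negOne Q * ρ with hydef
      have hyy : y * y = 1 := by
        have hnn : Orth.negOne Q * Orth.negOne Q = 1 :=
          Orth.isometry_ext fun v => by rw [Orth.app_mul, Orth.app_negOne, Orth.app_negOne, neg_neg, Orth.app_one]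
        rw [hydef, (hneg ρ).symm.mul_mul_mul_comm, hnn, Orth.refl_mul_self, one_mul]
      have hρh : Commute ρ h := by
        have h' := (Orth.conj_refl h hQz).trans (Orth.refl_congr _ hQz hhz)
        exact (mul_inv_eq_iff_eq_mul.1 h').symm
      have hc : Commute y h := (hneg h).mul_left hρh
      have hfix : ∀ v, Orth.app y v = v ↔ Orth.app h v = v := fun v => by
        rw [hydef, Orth.app_mul, Orth.app_negOne, neg_eq_iff_eq_neg]
        constructor
        · intro hv
          have h3 : (2 : F) • v = (polar ⇑Q z v / Q z) • z := by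
            rw [two_smul, ← sub_neg_eq_add]
            rw [← hv]
            rw [Orth.app_refl, div_eq_inv_mul]
            abel
          have hv' : v = ((polar ⇑Q z v / Q z) / 2) • z := by
            rw [div_eq_inv_mul _ (2 : F), mul_smul, ← h3, inv_smul_smul₀ h2]
          rw [hv', Orth.app_smul, hhz]
        · intro hv
          obtain ⟨t, ht⟩ := hspan ⟨v, mem_fixedSpace.2 hv⟩
          rw [← show t • z = v from congrArg Subtype.val ht, Orth.app_smul, Orth.app_refl_self, smul_neg]
      have hyO : y ∈ Omega F ⇑Q := by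
        rw [Orth.mem_omega_iff h2 hQ (by omega)]
        refine ⟨?_, (hspin heq h y hh hyy hfix hd1).2 hcond⟩
        rw [hydef, map_mul, detSign_negOne h2 hQ (by rw [hcard]; exact odd_two_mul_add_one n),
          Orth.detSign_refl h2 hQ hQz]
        rfl
      have hyne : y ≠ 1 := fun h1 => by
        have : h = 1 := Orth.isometry_ext fun v => by rw [Orth.app_one, (hfix v).1 (by rw [h1, Orth.app_one])]
        rw [this, orderOf_one] at hh
        exact hr.one_lt.ne hh
      have hyo : orderOf y = 2 := orderOf_eq_prime (by rw [_root_.sq, hyy]) hyne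
      refine ⟨y * h, Subgroup.mul_mem _ hyO (mem_omega_of_odd h2 hQ (by omega) (hh ▸ hrodd)), ?_⟩
      rw [hc.orderOf_mul_eq_mul_orderOf_of_coprime (by rw [hyo, hh]; exact hrodd.coprime_two_left), hyo, hh]

end Cfsg.Agent.Lib.PrimeGraphBC
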